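import Cfsg.Agent.Lib.LocalEven.SzL2Offender.L2Case

/-!
The offender bound: in a reduced `S₃`-free group with Suzuki and `L₂(3^odd)` factors an elementary
abelian `2`-subgroup `A` of operators moves at least `|A|²`.
-/

set_option autoImplicit false
set_option linter.style.haveILetI false

universe u

namespace CfsgLib.LocalEven.SzL2

open Cfsg CfsgLib.LocalEven.S4W CfsgLib.Techniques CfsgLib.Coprime
open scoped commutatorElement

variable {L : Type u} [Group L] [Finite L]

theorem sq_le_of_pow {e k m : ℕ} (he : ∃ j, e = 2 ^ j) (hk : ∃ i, k = 2 ^ i)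
    (h1 : e ^ 4 ≤ 2 * 2 ^ m) (h2 : 2 ^ m ≤ k ^ 2) : e ^ 2 ≤ k := by
  obtain ⟨j, rfl⟩ := he
  obtain ⟨i, rfl⟩ := hk
  rw [← pow_mul] at h1 h2 ⊢
  have h3 : 2 ^ (j * 4) ≤ 2 ^ (i * 2 + 1) := h1.trans (by rw [pow_succ']; omega)
  have := (Nat.pow_le_pow_iff_right (by norm_num : 1 < 2)).1 h3
  exact Nat.pow_le_pow_right two_pos (by omega)

theorem exists_pow_relIndex {H K : Subgroup L} (hK : IsPGroup 2 K) :
    ∃ j, H.relIndex K = 2 ^ j := by
  haveI : Fact (Nat.Prime 2) := ⟨Nat.prime_two⟩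
  exact hK.index (H.subgroupOf K)

theorem offender_bound_aux (M X : Subgroup L) (hM : IsElementaryAbelian 2 M)
    (hXM : X ≤ Subgroup.normalizer (M : Set L)) (hf : X ⊓ Subgroup.centralizer (M : Set L) = ⊥)
    (hO : pCore 2 ↥X = ⊥) (hfree : ¬ Involves (Equiv.Perm (Fin 3)) ↥X)
    (hc : IsCompositionKGroupWith IsSuzukiOrPSL2OddPowerThree ↥X) :
    ∀ (N : ℕ) (A : Subgroup L), Nat.card A ≤ N → A ≤ X → IsElementaryAbelian 2 A →
      Nat.card A ^ 2 * Nat.card ↥(M ⊓ Subgroup.centralizer (A : Set L)) ≤ Nat.card M ∧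
        Nat.card A ^ 2 ≤ Nat.card ↥⁅M, A⁆ := by
  intro N
  induction N with
  | zero => intro A h; exact absurd h (by have := Nat.card_pos (α := A); omega)
  | succ N ih =>
  intro A hN hAX hA
  rcases eq_or_ne A ⊥ with rfl | hA1
  · rw [Subgroup.card_bot, one_pow, one_mul]
    exact ⟨Subgroup.card_le_of_le inf_le_left, Nat.one_le_iff_ne_zero.2 Nat.card_pos.ne'⟩
  haveI : Fact (Nat.Prime 2) := ⟨Nat.prime_two⟩
  set A₀ := A.subgroupOf X with hA₀
  have hA₀el : IsElementaryAbelian 2 A₀ := by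
    refine ⟨⟨⟨fun u v => ?_⟩⟩, fun u hu => Subtype.ext (by simpa using hA.2 _ hu)⟩
    exact Subtype.ext (Subtype.ext (comm_el hA u.2 v.2))
  have hA₀ne : A₀ ≠ ⊥ := by
    rw [Ne, Subgroup.subgroupOf_eq_bot, disjoint_iff, inf_eq_left.2 hAX]
    exact hA1
  obtain ⟨C₀, y₀, ⟨a, haX⟩, r, d, hC₀A, hC₀ne, haA, hr, hr2, hd, hy₀, hy₀C, hy₀inv, hidx⟩ :=
    exists_data hO hfree hc hA₀el hA₀ne
  set Y₀ := Subgroup.zpowers y₀
  have hY₀ : IsElementaryAbelian r Y₀ := by
    refine ⟨inferInstance, ?_⟩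
    rintro z ⟨i, rfl⟩
    rw [← zpow_natCast, ← zpow_mul, mul_comm, zpow_mul, zpow_natCast, ← hy₀, pow_orderOf_eq_one,
      one_zpow]
  have hY₀card : r ^ 1 ≤ Nat.card Y₀ := by rw [pow_one, Nat.card_zpowers, hy₀]
  have hY₀C : Y₀ ≤ Subgroup.centralizer (C₀ : Set X) := Subgroup.zpowers_le.2 hy₀C
  have hY₀inv : ∀ z ∈ Y₀, (⟨a, haX⟩ : X) * z * (⟨a, haX⟩ : X)⁻¹ = z⁻¹ := by
    rintro z ⟨i, rfl⟩
    simp only [← conj_zpow, hy₀inv, inv_zpow]
  replace hidx : C₀.relIndex A₀ ^ 4 ≤ 2 * 2 ^ (d * 1) := by rwa [mul_one]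
  set C := C₀.map X.subtype with hC
  set Y := Y₀.map X.subtype with hY
  have hCA : C ≤ A := by
    rintro _ ⟨c, hc, rfl⟩
    exact hC₀A hc
  have haA' : a ∈ A := haA
  have hYX : Y ≤ X := Subgroup.map_subtype_le _
  have hCX : C ≤ X := Subgroup.map_subtype_le _
  have hidx' : C.relIndex A = C₀.relIndex A₀ := by
    rw [← Subgroup.map_subgroupOf_eq_of_le hAX, hC,
      Subgroup.relIndex_map_map_of_injective _ _ X.subtype_injective]
  have hCne : C ≠ A := fun h => hC₀ne (Subgroup.map_injective X.subtype_injective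
    (by rw [hA₀, Subgroup.map_subgroupOf_eq_of_le hAX]; exact h))
  have hCcard : Nat.card C < Nat.card A := lt_of_le_of_ne (Subgroup.card_le_of_le hCA)
    fun h => hCne (Subgroup.eq_of_le_of_card_ge hCA h.ge)
  obtain ⟨ih1, ih2⟩ := ih C (by omega) hCX (el_mono hA hCA)
  have hCp : IsPGroup 2 C := isPGroup_el (el_mono hA hCA)
  have hCM : C ≤ Subgroup.normalizer (M : Set L) := hCX.trans hXM
  have haM : a ∈ Subgroup.normalizer (M : Set L) := hXM haX
  have hYel : IsElementaryAbelian r Y := by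
    refine ⟨⟨⟨?_⟩⟩, ?_⟩
    · rintro ⟨_, u, hu, rfl⟩ ⟨_, v, hv, rfl⟩
      haveI := hY₀.1
      exact Subtype.ext (congrArg (fun t : Y₀ => ((t : X) : L)) (mul_comm' (⟨u, hu⟩ : Y₀) ⟨v, hv⟩))
    · rintro _ ⟨u, hu, rfl⟩
      exact congrArg Subtype.val (hY₀.2 u hu)
  have hYcard : r ^ 1 ≤ Nat.card Y := by
    rwa [hY, Subgroup.card_map_of_injective X.subtype_injective]
  have hYC : Y ≤ Subgroup.centralizer (C : Set L) := by
    rintro _ ⟨u, hu, rfl⟩
    refine Subgroup.mem_centralizer_iff.2 ?_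
    rintro _ ⟨c, hc, rfl⟩
    exact congrArg Subtype.val (Subgroup.mem_centralizer_iff.1 (hY₀C hu) c hc)
  have hYinv : ∀ y ∈ Y, a * y * a⁻¹ = y⁻¹ := by
    rintro _ ⟨u, hu, rfl⟩
    exact congrArg Subtype.val (hY₀inv u hu)
  have hYodd : ∀ y ∈ Y, Odd (orderOf y) := fun y hy =>
    (hr.odd_of_ne_two hr2).of_dvd_nat (orderOf_dvd_of_pow_eq_one (hYel.2 y hy))
  have hfaith : ∀ y ∈ Y, y ∈ Subgroup.centralizer (M : Set L) → y = 1 := fun y hy h => by
    rw [← Subgroup.mem_bot, ← hf]
    exact ⟨hYX hy, h⟩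
  have hej : ∃ j, C.relIndex A = 2 ^ j := exists_pow_relIndex (isPGroup_el hA)
  rw [hidx'] at hej
  have hcardA := card_eq_relIndex_mul hCA
  rw [hidx'] at hcardA
  set e := C₀.relIndex A₀
  constructor
  · -- on the fixed points of `C`
    set V := M ⊓ Subgroup.centralizer (C : Set L) with hV
    have hVn : ∀ {g : L}, g ∈ Subgroup.normalizer (M : Set L) →
        g ∈ Subgroup.centralizer (C : Set L) → g ∈ Subgroup.normalizer (V : Set L) := by
      intro g hgM hgC
      have h1 := mem_normalizer_centralizer (Subgroup.centralizer_le_normalizer _ hgC)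
      rw [mem_normalizer_iff_cj] at hgM h1 ⊢
      rw [hV, cj_inf, hgM, h1]
    have haV : a ∈ Subgroup.normalizer (V : Set L) := hVn haM
      (Subgroup.mem_centralizer_iff.2 fun c hc => comm_el hA (hCA hc) haA')
    have hYV : Y ≤ Subgroup.normalizer (V : Set L) := fun y hy => hVn (hXM (hYX hy)) (hYC hy)
    have hfaithV : Y ⊓ Subgroup.centralizer (V : Set L) = ⊥ := by
      rw [eq_bot_iff]
      rintro y ⟨hy, hyV⟩
      exact Subgroup.mem_bot.2 (hfaith y hy (trivial_of_trivial_fixed (isPGroup_el hM) hCp hCM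
        (hYodd y hy) (hXM (hYX hy)) (hYC hy) hyV))
    have key := pow_le_sq hr hr2 hd (sq_one hA haA') 1 V Y (el_mono hM inf_le_left) haV hYV hYel
      hYcard hfaithV hYinv
    set D := V ⊓ Subgroup.centralizer ({a} : Set L) with hD
    have hDk : D.relIndex V = (Subgroup.centralizer ({a} : Set L)).relIndex V := by
      rw [hD, Subgroup.inf_relIndex_left]
    have hek : e ^ 2 ≤ (Subgroup.centralizer ({a} : Set L)).relIndex V :=
      sq_le_of_pow hej (exists_pow_relIndex (isPGroup_el (el_mono hM inf_le_left))) hidx key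
    have hle : M ⊓ Subgroup.centralizer (A : Set L) ≤ D := le_inf
      (inf_le_inf_left _ (Subgroup.centralizer_le hCA))
      (inf_le_right.trans (Subgroup.centralizer_le (by simpa using haA')))
    calc Nat.card A ^ 2 * Nat.card ↥(M ⊓ Subgroup.centralizer (A : Set L))
        = Nat.card C ^ 2 * (e ^ 2 * Nat.card ↥(M ⊓ Subgroup.centralizer (A : Set L))) := by
          rw [hcardA]; ring
      _ ≤ Nat.card C ^ 2 * (D.relIndex V * Nat.card D) := by
          rw [hDk]
          exact Nat.mul_le_mul_left _ (Nat.mul_le_mul hek (Subgroup.card_le_of_le hle))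
      _ = Nat.card C ^ 2 * Nat.card V := by rw [← card_eq_relIndex_mul inf_le_left]
      _ ≤ _ := ih1
  · -- modulo `[M, C]`
    set W := ⁅M, C⁆ with hW
    set U := ⁅M, A⁆ with hU
    have hAM : A ≤ Subgroup.normalizer (M : Set L) := hAX.trans hXM
    have hWM : W ≤ M := Subgroup.le_normalizer_iff_commutator_le_left.1 hCM
    have hUM : U ≤ M := Subgroup.le_normalizer_iff_commutator_le_left.1 hAM
    have hWU : W ≤ U := Subgroup.commutator_mono le_rfl hCA
    set NW := Subgroup.normalizer (W : Set L) with hNW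
    have hMN : M ≤ NW := el_le_normalizer hM hWM
    have hCn : ∀ {g : L}, g ∈ Subgroup.normalizer (M : Set L) →
        g ∈ Subgroup.centralizer (C : Set L) → g ∈ NW := fun hgM hgC =>
      mem_normalizer_commutator hgM (Subgroup.centralizer_le_normalizer _ hgC)
    have haN : a ∈ NW := hCn haM
      (Subgroup.mem_centralizer_iff.2 fun c hc => comm_el hA (hCA hc) haA')
    have hYN : Y ≤ NW := fun y hy => hCn (hXM (hYX hy)) (hYC hy)
    haveI : (W.subgroupOf NW).Normal := Subgroup.normal_in_normalizer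
    set π := QuotientGroup.mk' (W.subgroupOf NW) with hπ
    set Mb := (M.subgroupOf NW).map π with hMb
    set Yb := (Y.subgroupOf NW).map π with hYb
    have hπ1 : ∀ g : NW, π g = 1 ↔ (g : L) ∈ W := fun g => by
      rw [hπ, QuotientGroup.mk'_apply, QuotientGroup.eq_one_iff]; rfl
    have hMbel : IsElementaryAbelian 2 Mb := by
      refine ⟨⟨⟨?_⟩⟩, ?_⟩
      · rintro ⟨_, u, hu, rfl⟩ ⟨_, v, hv, rfl⟩
        refine Subtype.ext ?_
        show π u * π v = π v * π u
        rw [← map_mul, ← map_mul]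
        exact congrArg π (Subtype.ext (comm_el hM hu hv))
      · rintro _ ⟨u, hu, rfl⟩
        rw [← map_pow]
        exact (congrArg π (Subtype.ext (by simpa using hM.2 _ hu))).trans (map_one π)
    have hnorm : ∀ g : NW, (g : L) ∈ Subgroup.normalizer (M : Set L) →
        π g ∈ Subgroup.normalizer (Mb : Set (NW ⧸ W.subgroupOf NW)) := by
      intro g hg
      rw [mem_normalizer_iff_cj, hMb, cj, Subgroup.map_map]
      have : (MulAut.conj (π g)).toMonoidHom.comp π = π.comp (MulAut.conj g).toMonoidHom := by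
        ext v; simp
      rw [this, ← Subgroup.map_map]
      congr 1
      ext v
      rw [← cj, mem_cj, Subgroup.mem_subgroupOf, Subgroup.mem_subgroupOf]
      simp only [Subgroup.coe_mul, InvMemClass.coe_inv]
      exact ⟨fun h => by simpa [mul_assoc] using conj_mem hg h,
        fun h => by simpa using conj_mem (Subgroup.inv_mem _ hg) h⟩
    have hYbcard : r ^ 1 ≤ Nat.card Yb := by
      have h2 : Nat.card (Y.subgroupOf NW) = Nat.card Yb :=
        Nat.card_congr (Equiv.ofBijective (fun v => (⟨π v.1, v.1, v.2, rfl⟩ : Yb))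
          ⟨fun u v huv => by
            have h3 : π ((u : NW)⁻¹ * v) = 1 := by
              rw [map_mul, map_inv, inv_mul_eq_one]; exact congrArg Subtype.val huv
            have h4 := hfaith _ (Y.mul_mem (Y.inv_mem u.2) v.2)
              (le_centralizer_el hM (hWM ((hπ1 _).1 h3)))
            exact Subtype.ext (Subtype.ext (inv_mul_eq_one.1 h4)),
          fun ⟨_, v, hv, rfl⟩ => ⟨⟨v, hv⟩, rfl⟩⟩)
      rw [← h2, Nat.card_congr (Subgroup.subgroupOfEquivOfLe hYN).toEquiv]
      exact hYcard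
    have hYbel : IsElementaryAbelian r Yb := by
      refine ⟨⟨⟨?_⟩⟩, ?_⟩
      · rintro ⟨_, u, hu, rfl⟩ ⟨_, v, hv, rfl⟩
        refine Subtype.ext ?_
        show π u * π v = π v * π u
        rw [← map_mul, ← map_mul]
        haveI := hYel.1
        exact congrArg π (Subtype.ext (show (u : L) * v = v * u from
          congrArg Subtype.val (mul_comm' (⟨_, hu⟩ : Y) ⟨_, hv⟩)))
      · rintro _ ⟨u, hu, rfl⟩
        rw [← map_pow]
        exact (congrArg π (Subtype.ext (by simpa using hYel.2 _ hu))).trans (map_one π)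
    have hfaithb : Yb ⊓ Subgroup.centralizer (Mb : Set (NW ⧸ W.subgroupOf NW)) = ⊥ := by
      rw [eq_bot_iff]
      rintro _ ⟨⟨u, hu, rfl⟩, hc⟩
      have h : ⁅M, Subgroup.zpowers (u : L)⁆ ≤ W := by
        rw [Subgroup.commutator_le]
        rintro v hv _ ⟨i, rfl⟩
        refine (hπ1 ⁅(⟨v, hMN hv⟩ : NW), u ^ i⁆).1 ?_
        rw [map_commutatorElement, commutatorElement_eq_one_iff_mul_comm, map_zpow]
        exact ((show Commute (π ⟨v, hMN hv⟩) (π u) from
          Subgroup.mem_centralizer_iff.1 hc _ ⟨⟨v, hMN hv⟩, hv, rfl⟩).zpow_right i).eq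
      have := hfaith _ hu (trivial_of_trivial_quotient hM hCp hCM (hYodd _ hu) (hXM (hYX hu))
        (hYC hu) h)
      rw [Subgroup.mem_bot, show u = 1 from Subtype.ext this, map_one]
    set ab := π ⟨a, haN⟩ with hab
    have hab2 : ab * ab = 1 := by
      rw [hab, ← map_mul]
      exact (congrArg π (Subtype.ext (sq_one hA haA'))).trans (map_one π)
    have key := pow_le_sq hr hr2 hd hab2 1 Mb Yb hMbel (hnorm _ haM)
      (by rintro _ ⟨u, hu, rfl⟩; exact hnorm u (hXM (hYX hu))) hYbel hYbcard hfaithb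
      (by
        rintro _ ⟨u, hu, rfl⟩
        rw [hab, ← map_inv, ← map_mul, ← map_mul, ← map_inv]
        exact congrArg π (Subtype.ext (by simpa using hYinv _ hu)))
    have hek : e ^ 2 ≤ (Subgroup.centralizer ({ab} : Set _)).relIndex Mb :=
      sq_le_of_pow hej (by
        haveI : Finite (NW ⧸ W.subgroupOf NW) := Quotient.finite _
        exact (isPGroup_el hMbel).index _) hidx key
    have hle := relIndex_le_card_commutator hMbel (hnorm ⟨a, haN⟩ haM)
    have hsub : ⁅Mb, Subgroup.zpowers ab⁆ ≤ (U.subgroupOf NW).map π := by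
      rw [hab, ← MonoidHom.map_zpowers, hMb, ← Subgroup.map_commutator]
      refine Subgroup.map_mono ((Subgroup.commutator_le).2 fun v hv w hw => ?_)
      obtain ⟨i, rfl⟩ := hw
      exact Subgroup.commutator_mem_commutator hv
        (by simpa using A.zpow_mem haA' i)
    have hUcard : Nat.card ((U.subgroupOf NW).map π) = W.relIndex U := by
      rw [← Subgroup.relIndex_ker, hπ, QuotientGroup.ker_mk',
        Subgroup.relIndex_subgroupOf (hUM.trans hMN)]
    have hcardU := card_eq_relIndex_mul hWU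
    calc Nat.card A ^ 2 = e ^ 2 * Nat.card C ^ 2 := by rw [hcardA]; ring
      _ ≤ W.relIndex U * Nat.card W :=
          Nat.mul_le_mul (hek.trans (hle.trans ((Subgroup.card_le_of_le hsub).trans hUcard.le))) ih2
      _ = Nat.card U := hcardU.symm

theorem offender_bound (M X : Subgroup L) (hM : IsElementaryAbelian 2 M)
    (hXM : X ≤ Subgroup.normalizer (M : Set L)) (hf : X ⊓ Subgroup.centralizer (M : Set L) = ⊥)
    (hO : pCore 2 ↥X = ⊥) (hfree : ¬ Involves (Equiv.Perm (Fin 3)) ↥X)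
    (hc : IsCompositionKGroupWith IsSuzukiOrPSL2OddPowerThree ↥X) (A : Subgroup L) (hAX : A ≤ X)
    (hA : IsElementaryAbelian 2 A) :
    Nat.card A ^ 2 * Nat.card ↥(M ⊓ Subgroup.centralizer (A : Set L)) ≤ Nat.card M ∧
      Nat.card A ^ 2 ≤ Nat.card ↥⁅M, A⁆ :=
  offender_bound_aux M X hM hXM hf hO hfree hc _ A le_rfl hAX hA

end CfsgLib.LocalEven.SzL2
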