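import Cfsg.Agent.Lib.LocalEven.SL2Displacement
import Cfsg.Agent.Lib.Coprime.Action2
import Cfsg.Agent.Lib.LocalEven.S4Solvable.Helpers

/-!
Displacement of an involution inverting an elementary abelian group of odd order of operators on an
elementary abelian `2`-group, and transfer of faithfulness to fixed points and to quotients.
-/

set_option autoImplicit false
set_option linter.style.haveILetI false

open scoped commutatorElement

namespace CfsgLib.LocalEven.SzL2

open Cfsg CfsgLib.LocalEven.S4W CfsgLib.Techniques CfsgLib.Coprime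

variable {G : Type*} [Group G]

/-- `v ↦ v · vᵃ` on an elementary abelian group normalised by `a`. -/
def dispHom {V : Subgroup G} (hV : IsElementaryAbelian 2 V) {a : G}
    (ha : a ∈ Subgroup.normalizer (V : Set G)) : ↥V →* G :=
  MonoidHom.mk' (fun v => (v : G) * (a * v * a⁻¹)) fun v w => by
    have h := comm_el hV w.2 (conj_mem ha v.2)
    simp only [Subgroup.coe_mul]
    calc (v : G) * w * (a * (v * w) * a⁻¹)
        = v * (w * (a * v * a⁻¹)) * (a * w * a⁻¹) := by group
      _ = v * ((a * v * a⁻¹) * w) * (a * w * a⁻¹) := by rw [h]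
      _ = _ := by group

theorem ker_dispHom {V : Subgroup G} (hV : IsElementaryAbelian 2 V) {a : G}
    (ha : a ∈ Subgroup.normalizer (V : Set G)) :
    (dispHom hV ha).ker = (Subgroup.centralizer ({a} : Set G)).subgroupOf V := by
  ext ⟨v, hv⟩
  rw [MonoidHom.mem_ker, Subgroup.mem_subgroupOf, Subgroup.mem_centralizer_singleton_iff]
  change v * (a * v * a⁻¹) = 1 ↔ v * a = a * v
  have hinv : v⁻¹ = v := inv_eq_of_mul_eq_one_left (sq_one hV hv)
  constructor
  · intro h
    have : a * v * a⁻¹ = v := by rw [eq_inv_of_mul_eq_one_right h, hinv]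
    exact (mul_inv_eq_iff_eq_mul.1 this).symm
  · intro h
    rw [← h, mul_inv_cancel_right, sq_one hV hv]

theorem relIndex_eq_card_image {V : Subgroup G} (hV : IsElementaryAbelian 2 V) {a : G}
    (ha : a ∈ Subgroup.normalizer (V : Set G)) {T : Subgroup G} (hT : T ≤ V) :
    (Subgroup.centralizer ({a} : Set G)).relIndex T =
      Nat.card ↥((T.subgroupOf V).map (dispHom hV ha)) := by
  rw [← Subgroup.relIndex_ker, ker_dispHom, Subgroup.relIndex_subgroupOf hT]

theorem image_le {V : Subgroup G} (hV : IsElementaryAbelian 2 V) {a : G}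
    (ha : a ∈ Subgroup.normalizer (V : Set G)) {T : Subgroup G}
    (hT : a ∈ Subgroup.normalizer (T : Set G)) :
    (T.subgroupOf V).map (dispHom hV ha) ≤ T := by
  rintro _ ⟨v, hv, rfl⟩
  exact T.mul_mem hv (conj_mem hT hv)

theorem range_le_commutator {V : Subgroup G} (hV : IsElementaryAbelian 2 V) {a : G}
    (ha : a ∈ Subgroup.normalizer (V : Set G)) :
    (dispHom hV ha).range ≤ ⁅V, Subgroup.zpowers a⁆ := by
  rintro _ ⟨⟨v, hv⟩, rfl⟩
  have h := Subgroup.commutator_mem_commutator hv (Subgroup.mem_zpowers a)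
  rw [commutatorElement_def, inv_eq_of_mul_eq_one_left (sq_one hV hv)] at h
  simpa [dispHom, mul_assoc] using h

theorem relIndex_le_card_commutator [Finite G] {V : Subgroup G} (hV : IsElementaryAbelian 2 V)
    {a : G} (ha : a ∈ Subgroup.normalizer (V : Set G)) :
    (Subgroup.centralizer ({a} : Set G)).relIndex V ≤ Nat.card ↥⁅V, Subgroup.zpowers a⁆ := by
  rw [relIndex_eq_card_image hV ha le_rfl]
  exact Subgroup.card_le_of_le ((Subgroup.map_le_range _ _).trans (range_le_commutator hV ha))

theorem card_mul_le [Finite G] {T T' V : Subgroup G} (hd : Disjoint T T') (hT : T ≤ V)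
    (hT' : T' ≤ V) : Nat.card T * Nat.card T' ≤ Nat.card V := by
  rw [← Nat.card_prod]
  refine Nat.card_le_card_of_injective
    (fun p : T × T' => (⟨p.1.1 * p.2.1, V.mul_mem (hT p.1.2) (hT' p.2.2)⟩ : V)) fun p q h => ?_
  exact Subgroup.mul_injective_of_disjoint hd (congrArg Subtype.val h)

/-- Disjoint invariant subgroups contribute multiplicatively to the displacement. -/
theorem relIndex_mul_le [Finite G] {V T T' : Subgroup G} (hV : IsElementaryAbelian 2 V) {a : G}
    (ha : a ∈ Subgroup.normalizer (V : Set G)) (hT : T ≤ V) (hT' : T' ≤ V)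
    (haT : a ∈ Subgroup.normalizer (T : Set G)) (haT' : a ∈ Subgroup.normalizer (T' : Set G))
    (hd : Disjoint T T') :
    (Subgroup.centralizer ({a} : Set G)).relIndex T *
        (Subgroup.centralizer ({a} : Set G)).relIndex T' ≤
      (Subgroup.centralizer ({a} : Set G)).relIndex V := by
  rw [relIndex_eq_card_image hV ha hT, relIndex_eq_card_image hV ha hT',
    relIndex_eq_card_image hV ha le_rfl]
  exact card_mul_le (hd.mono (image_le hV ha haT) (image_le hV ha haT'))
    (Subgroup.map_mono (Subgroup.comap_mono hT)) (Subgroup.map_mono (Subgroup.comap_mono hT'))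

theorem exists_mul_of_mem_sup {H K : Subgroup G} (h : H ≤ Subgroup.normalizer (K : Set G))
    {x : G} (hx : x ∈ H ⊔ K) : ∃ a ∈ H, ∃ b ∈ K, a * b = x := by
  rw [← SetLike.mem_coe, Subgroup.coe_mul_of_left_le_normalizer_right H K h] at hx
  exact Set.mem_mul.1 hx

theorem el_le_normalizer {M T : Subgroup G} (hM : IsElementaryAbelian 2 M) (hT : T ≤ M) :
    M ≤ Subgroup.normalizer (T : Set G) :=
  (le_centralizer_el hM).trans ((Subgroup.centralizer_le hT).trans
    (Subgroup.centralizer_le_normalizer _))

theorem mem_normalizer_commutator {V B : Subgroup G} {a : G}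
    (hV : a ∈ Subgroup.normalizer (V : Set G)) (hB : a ∈ Subgroup.normalizer (B : Set G)) :
    a ∈ Subgroup.normalizer ((⁅V, B⁆ : Subgroup G) : Set G) := by
  rw [mem_normalizer_iff_cj, cj, Subgroup.map_commutator]
  rw [mem_normalizer_iff_cj, cj] at hV hB
  rw [hV, hB]

theorem mem_normalizer_centralizer {B : Subgroup G} {a : G}
    (hB : a ∈ Subgroup.normalizer (B : Set G)) :
    a ∈ Subgroup.normalizer (Subgroup.centralizer (B : Set G) : Set G) := by
  rw [mem_normalizer_iff_cj] at hB ⊢
  rw [← S4W.centralizer_cj, hB]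

/-- An involution inverting an elementary abelian `r`-group `Y` of operators of rank `n`, faithful
on an elementary abelian `2`-group `V`, moves at least half of `d n` dimensions. -/
theorem pow_le_sq [Finite G] {r d : ℕ} (hr : r.Prime) (hr2 : r ≠ 2)
    (hd : ∀ j : ℕ, 0 < j → r ∣ 2 ^ j - 1 → d ≤ j) {a : G} (ha2 : a * a = 1) :
    ∀ (n : ℕ) (V Y : Subgroup G), IsElementaryAbelian 2 V →
      a ∈ Subgroup.normalizer (V : Set G) → Y ≤ Subgroup.normalizer (V : Set G) →
      IsElementaryAbelian r Y → r ^ n ≤ Nat.card Y →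
      Y ⊓ Subgroup.centralizer (V : Set G) = ⊥ → (∀ y ∈ Y, a * y * a⁻¹ = y⁻¹) →
      2 ^ (d * n) ≤ (Subgroup.centralizer ({a} : Set G)).relIndex V ^ 2 := by
  intro n
  induction n with
  | zero =>
    intro V Y _ _ _ _ _ _ _
    rw [mul_zero, pow_zero]
    exact Nat.one_le_pow _ _ (S4W.relIndex_pos _ _)
  | succ n ih =>
    intro V Y hV haV hYV hY hcard hfaith hinv
    haveI := Fact.mk hr
    haveI := hY.1
    haveI := hV.1
    have hVp : IsPGroup 2 V := isPGroup_el hV
    have hcop : (Nat.card Y).Coprime (Nat.card V) := by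
      obtain ⟨i, hi⟩ := IsPGroup.iff_card.1 (show IsPGroup r Y from fun y =>
        ⟨1, Subtype.ext (by simpa using hY.2 y.1 y.2)⟩)
      obtain ⟨k, hk⟩ := IsPGroup.iff_card.1 hVp
      rw [hi, hk]
      exact Nat.Coprime.pow _ _ ((Nat.coprime_primes hr Nat.prime_two).2 hr2)
    obtain ⟨B, hBY, ⟨y, hyY, hgen⟩, hW⟩ : ∃ B ≤ Y, (∃ y ∈ Y, B ⊔ Subgroup.zpowers y = Y) ∧
        ¬ V ⊓ Subgroup.centralizer (B : Set G) ≤ Subgroup.centralizer (Y : Set G) := by
      by_contra hcon
      push Not at hcon
      have h := le_of_cyclic_quotient hYV hcop hcon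
      have hY0 : Y = ⊥ := by
        rw [← hfaith, eq_comm, inf_eq_left]
        exact Subgroup.le_centralizer_iff.1 h
      rw [hY0, Subgroup.card_bot] at hcard
      exact absurd hcard (not_le.2 (Nat.one_lt_pow n.succ_ne_zero hr.one_lt))
    set W := V ⊓ Subgroup.centralizer (B : Set G) with hWdef
    have hyW : y ∉ Subgroup.centralizer (W : Set G) := fun h => hW (by
      rw [Subgroup.le_centralizer_iff, ← hgen]
      exact sup_le (Subgroup.le_centralizer_iff.1 inf_le_right) (Subgroup.zpowers_le.2 h))
    have hyB : y ∉ B := fun h => hyW (Subgroup.le_centralizer_iff.1 inf_le_right h)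
    have hy1 : y ≠ 1 := fun h => hyB (h ▸ B.one_mem)
    have hyo : orderOf y = r := orderOf_eq_prime (hY.2 y hyY) hy1
    have hcardB : r ^ n ≤ Nat.card B := by
      have hnorm : Subgroup.zpowers y ≤ Subgroup.normalizer (B : Set G) := by
        rw [Subgroup.zpowers_le, Subgroup.mem_normalizer_iff]
        intro b
        constructor
        · intro hb
          rwa [show y * b = b * y from congrArg Subtype.val (mul_comm' (⟨y, hyY⟩ : Y) ⟨b, hBY hb⟩),
            mul_inv_cancel_right]
        · intro hb
          have hbY : b ∈ Y := by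
            have := Y.mul_mem (Y.mul_mem (Y.inv_mem hyY) (hBY hb)) hyY
            simpa [mul_assoc] using this
          rwa [show y * b = b * y from congrArg Subtype.val (mul_comm' (⟨y, hyY⟩ : Y) ⟨b, hbY⟩),
            mul_inv_cancel_right] at hb
      have h1 : B.relIndex Y ∣ r := by
        rw [← hgen, sup_comm, S4W.relIndex_sup_eq hnorm, ← hyo, ← Nat.card_zpowers]
        exact Subgroup.relIndex_dvd_card _ _
      have h2 := S4W.card_eq_relIndex_mul hBY
      have h3 := Nat.le_of_dvd hr.pos h1
      have h4 : r * r ^ n ≤ r * Nat.card B := by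
        calc r * r ^ n = r ^ (n + 1) := (pow_succ' r n).symm
          _ ≤ Nat.card Y := hcard
          _ ≤ _ := by rw [h2]; exact Nat.mul_le_mul_right _ h3
      exact Nat.le_of_mul_le_mul_left h4 hr.pos
    have haB : a ∈ Subgroup.normalizer (B : Set G) := by
      rw [Subgroup.mem_normalizer_iff]
      have hai : a⁻¹ = a := inv_eq_of_mul_eq_one_left ha2
      have hstep : ∀ b ∈ B, a * b * a⁻¹ ∈ B := fun b hb => by
        rw [hinv b (hBY hb)]; exact B.inv_mem hb
      refine fun b => ⟨hstep b, fun hb => ?_⟩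
      have := hstep _ hb
      rw [hai] at this
      simpa [mul_assoc, ← mul_assoc a a, ha2, hai] using this
    have hYB : Y ≤ Subgroup.normalizer (B : Set G) := by
      intro z hz
      rw [Subgroup.mem_normalizer_iff]
      have hstep : ∀ b ∈ Y, z * b * z⁻¹ = b := fun b hb => by
        rw [show z * b = b * z from congrArg Subtype.val (mul_comm' (⟨z, hz⟩ : Y) ⟨b, hb⟩),
          mul_inv_cancel_right]
      refine fun b => ⟨fun hb => by rwa [hstep b (hBY hb)], fun hb => ?_⟩
      have hbY : b ∈ Y := by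
        have := Y.mul_mem (Y.mul_mem (Y.inv_mem hz) (hBY hb)) hz
        simpa [mul_assoc] using this
      rwa [hstep b hbY] at hb
    have haW : a ∈ Subgroup.normalizer (W : Set G) := by
      have h1 := mem_normalizer_centralizer haB
      rw [mem_normalizer_iff_cj] at h1 haV ⊢
      rw [hWdef, cj, Subgroup.map_inf _ _ _ (MulAut.conj a).injective]
      exact congrArg₂ (· ⊓ ·) haV h1
    have hyWn : y ∈ Subgroup.normalizer (W : Set G) := by
      have h1 := mem_normalizer_centralizer (hYB hyY)
      have h2 := hYV hyY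
      rw [mem_normalizer_iff_cj] at h1 h2 ⊢
      rw [hWdef, cj, Subgroup.map_inf _ _ _ (MulAut.conj y).injective]
      exact congrArg₂ (· ⊓ ·) h2 h1
    have hayn : a ∈ Subgroup.normalizer (Subgroup.zpowers y : Set G) := by
      rw [mem_normalizer_iff_cj, cj, MonoidHom.map_zpowers]
      simp only [MulEquiv.coe_toMonoidHom, MulAut.conj_apply]
      rw [hinv y hyY, Subgroup.zpowers_inv]
    have hWel : IsElementaryAbelian 2 W := el_mono hV inf_le_left
    haveI := hWel.1
    set T := ⁅W, Subgroup.zpowers y⁆ with hTdef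
    have hTW : T ≤ W :=
      Subgroup.le_normalizer_iff_commutator_le_left.1 (Subgroup.zpowers_le.2 hyWn)
    have hWV : W ≤ V := inf_le_left
    have hTel : IsElementaryAbelian 2 T := el_mono hWel hTW
    have haT : a ∈ Subgroup.normalizer (T : Set G) := mem_normalizer_commutator haW hayn
    have hTne : T ≠ ⊥ := fun h => hyW (Subgroup.le_centralizer_iff.1
      (Subgroup.commutator_eq_bot_iff_le_centralizer.1 h) (Subgroup.mem_zpowers y))
    have hfix : ∀ t ∈ T, t * y = y * t → t = 1 := by
      intro t ht h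
      have hc : (Nat.card (Subgroup.zpowers y)).Coprime (Nat.card W) :=
        (hcop.coprime_dvd_left (Subgroup.card_dvd_of_le (Subgroup.zpowers_le.2 hyY)))
          |>.coprime_dvd_right (Subgroup.card_dvd_of_le hWV)
      have h0 := centralizer_inf_commutator_eq_bot (Subgroup.zpowers_le.2 hyWn) hc
      rw [← Subgroup.mem_bot, ← h0]
      refine ⟨⟨hTW ht, ?_⟩, ht⟩
      refine Subgroup.mem_centralizer_iff.2 ?_
      rintro g ⟨i, rfl⟩
      exact ((Commute.zpow_right h i).eq).symm
    have hyT : y ∈ Subgroup.normalizer (T : Set G) :=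
      mem_normalizer_commutator hyWn (Subgroup.le_normalizer (Subgroup.mem_zpowers y))
    -- `T` is large, and `a` moves half of it
    have hT2 : 2 ^ d ≤ (Subgroup.centralizer ({a} : Set G)).relIndex T ^ 2 := by
      haveI : Fact (Nat.Prime 2) := ⟨Nat.prime_two⟩
      have hynT : y ∉ Subgroup.centralizer (T : Set G) := by
        intro h
        obtain ⟨t, ht, ht1⟩ := T.ne_bot_iff_exists_ne_one.1 hTne |>.elim fun t ht =>
          (⟨t.1, t.2, fun e => ht (Subtype.ext e)⟩ : ∃ t ∈ T, t ≠ 1)
        exact ht1 (hfix t ht (Subgroup.mem_centralizer_iff.1 h t ht))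
      have key := pow_two_n_le T (isPGroup_el hTel) hr
        (fun h => hr2 ((Nat.prime_dvd_prime_iff_eq hr Nat.prime_two).1 h))
        (k := 0) (m := d) (fun j hj h => hd j hj (by simpa using h)) y (by simpa using hyo) hyT
        (by simpa using hynT)
      rw [pow_zero, pow_one] at key
      have hbot : T ⊓ Subgroup.centralizer ({y} : Set G) = ⊥ := by
        rw [eq_bot_iff]
        rintro t ⟨ht, htc⟩
        exact hfix t ht (Subgroup.mem_centralizer_singleton_iff.1 htc)
      rw [hbot, Subgroup.relIndex_bot_left] at key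
      set D := T ⊓ Subgroup.centralizer ({a} : Set G) with hD
      have hD' : cj y D ≤ T := by
        rintro _ ⟨t, ht, rfl⟩
        exact conj_mem hyT ht.1
      have hdis : Disjoint D (cj y D) := by
        rw [disjoint_iff, eq_bot_iff]
        rintro t ⟨ht, ht'⟩
        obtain ⟨s, hs, rfl⟩ := ht'
        simp only [MulEquiv.coe_toMonoidHom, MulAut.conj_apply] at ht ⊢
        have h1 : Commute (y * s * y⁻¹) a := Subgroup.mem_centralizer_singleton_iff.1 ht.2
        have h2 : Commute (y * s * y⁻¹) (y * a * y⁻¹) := by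
          have : Commute s a := Subgroup.mem_centralizer_singleton_iff.1 hs.2
          simpa using this.map (MulAut.conj y).toMonoidHom
        have h3 : y * a * y⁻¹ = y * y * a := by
          have h := hinv y hyY
          have h' : a * y⁻¹ * a⁻¹ = y := by rw [← inv_inj]; simpa [mul_assoc] using h
          calc y * a * y⁻¹ = y * (a * y⁻¹ * a⁻¹) * a := by group
            _ = _ := by rw [h']
        have h4 : Commute (y * s * y⁻¹) (y * y) := by
          have := (h3 ▸ h2).mul_right h1.inv_right
          simpa [mul_assoc] using this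
        have h5 : Commute (y * s * y⁻¹) y := by
          have hodd : Odd r := hr.odd_of_ne_two hr2
          obtain ⟨k, hk⟩ := hodd
          have h6 := h4.pow_right (k + 1)
          have h7 : (y * y) ^ (k + 1) = y := by
            rw [← pow_two, ← pow_mul, show 2 * (k + 1) = orderOf y + 1 by rw [hyo]; omega,
              pow_succ, pow_orderOf_eq_one, one_mul]
          rwa [h7] at h6
        exact hfix _ ht.1 h5.eq
      have h8 := card_mul_le hdis inf_le_left hD'
      rw [card_cj] at h8
      have h9 := S4W.card_eq_relIndex_mul (H := D) (K := T) inf_le_left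
      have h10 : D.relIndex T = (Subgroup.centralizer ({a} : Set G)).relIndex T := by
        rw [hD, Subgroup.inf_relIndex_left]
      rw [← h10]
      have h11 : Nat.card D ≤ D.relIndex T := by
        refine Nat.le_of_mul_le_mul_right ?_ (Nat.card_pos (α := D))
        rwa [← h9]
      calc 2 ^ d ≤ Nat.card T := key
        _ = D.relIndex T * Nat.card D := h9
        _ ≤ D.relIndex T * D.relIndex T := Nat.mul_le_mul_left _ h11
        _ = _ := (sq _).symm
    -- the rest
    set T' := ⁅V, B⁆ with hT'def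
    have hT'V : T' ≤ V :=
      Subgroup.le_normalizer_iff_commutator_le_left.1 (hBY.trans hYV)
    have haT' : a ∈ Subgroup.normalizer (T' : Set G) := mem_normalizer_commutator haV haB
    have hBel : IsElementaryAbelian r B := ⟨Subgroup.le_centralizer_iff_isMulCommutative.1
      (hBY.trans ((Subgroup.le_centralizer_iff_isMulCommutative.2 hY.1).trans
        (Subgroup.centralizer_le hBY))), fun b hb => hY.2 b (hBY hb)⟩
    have hcopB : (Nat.card B).Coprime (Nat.card V) :=
      hcop.coprime_dvd_left (Subgroup.card_dvd_of_le hBY)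
    have hdisj : W ⊓ T' = ⊥ := centralizer_inf_commutator_eq_bot (hBY.trans hYV) hcopB
    have hBT' : B ≤ Subgroup.normalizer (T' : Set G) := fun b hb =>
      mem_normalizer_commutator (hYV (hBY hb)) (Subgroup.le_normalizer hb)
    have hB' : B ⊓ Subgroup.centralizer (T' : Set G) = ⊥ := by
      rw [eq_bot_iff]
      rintro b ⟨hb, hbc⟩
      rw [← hfaith]
      refine ⟨hBY hb, Subgroup.mem_centralizer_iff.2 fun v hv => ?_⟩
      have hc : (Nat.card (Subgroup.zpowers b)).Coprime (Nat.card V) :=
        hcopB.coprime_dvd_left (Subgroup.card_dvd_of_le (Subgroup.zpowers_le.2 hb))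
      have h0 := centralizer_inf_commutator_eq_bot
        (Subgroup.zpowers_le.2 (hYV (hBY hb))) hc
      have h1 : ⁅V, Subgroup.zpowers b⁆ ≤ Subgroup.centralizer (Subgroup.zpowers b : Set G) :=
        (Subgroup.commutator_mono le_rfl (Subgroup.zpowers_le.2 hb)).trans
          (Subgroup.le_centralizer_iff.2 (Subgroup.zpowers_le.2 hbc))
      have h2 : ⁅V, Subgroup.zpowers b⁆ = ⊥ := by
        rw [eq_bot_iff, ← h0]
        exact le_inf (le_inf (Subgroup.le_normalizer_iff_commutator_le_left.1
          (Subgroup.zpowers_le.2 (hYV (hBY hb)))) h1) le_rfl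
      have h3 := Subgroup.commutator_eq_bot_iff_le_centralizer.1 h2 hv
      exact (Subgroup.mem_centralizer_iff.1 h3 b (Subgroup.mem_zpowers b)).symm
    have h1 := ih T' B (el_mono hV hT'V) haT' hBT' hBel hcardB hB' fun b hb => hinv b (hBY hb)
    have h2 := relIndex_mul_le hV haV (hTW.trans hWV) hT'V haT haT'
      ((disjoint_iff.2 hdisj).mono_left hTW)
    calc 2 ^ (d * (n + 1)) = 2 ^ d * 2 ^ (d * n) := by rw [← pow_add]; ring_nf
      _ ≤ _ := Nat.mul_le_mul hT2 h1
      _ = _ := (mul_pow _ _ 2).symm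
      _ ≤ _ := Nat.pow_le_pow_left h2 2

/-- An element of odd order commuting with a `2`-group `C` of operators on `M` and trivial on
`C_M(C)` is trivial on `M`. -/
theorem trivial_of_trivial_fixed [Finite G] {M C : Subgroup G} (hM : IsPGroup 2 M)
    (hC : IsPGroup 2 C) (hCM : C ≤ Subgroup.normalizer (M : Set G)) {y : G}
    (hy : Odd (orderOf y)) (hyM : y ∈ Subgroup.normalizer (M : Set G))
    (hyC : y ∈ Subgroup.centralizer (C : Set G))
    (h : y ∈ Subgroup.centralizer ((M ⊓ Subgroup.centralizer (C : Set G) : Subgroup G) : Set G)) :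
    y ∈ Subgroup.centralizer (M : Set G) := by
  haveI : Fact (Nat.Prime 2) := ⟨Nat.prime_two⟩
  refine pq_lemma hC ?_ hM ?_ hCM (Subgroup.zpowers_le.2 hyM) ?_ (Subgroup.mem_zpowers y)
  · rw [Nat.card_zpowers]
    exact Nat.coprime_two_right.2 hy
  · exact Subgroup.le_centralizer_iff.1 (Subgroup.zpowers_le.2 hyC)
  · exact Subgroup.le_centralizer_iff.1 (Subgroup.zpowers_le.2 h)

theorem eq_bot_of_le_commutator [Finite G] {P T C : Subgroup G} (hP : IsPGroup 2 P) (hT : T ≤ P)
    (hC : C ≤ P) (h : T ≤ ⁅T, C⁆) : T = ⊥ := by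
  haveI : Fact (Nat.Prime 2) := ⟨Nat.prime_two⟩
  haveI := hP.isNilpotent
  obtain ⟨k, hk⟩ := Subgroup.nilpotent_iff_lowerCentralSeries.1 (inferInstance : Group.IsNilpotent P)
  have key : ∀ i, T.subgroupOf P ≤ Subgroup.lowerCentralSeries (⊤ : Subgroup P) i := by
    intro i
    induction i with
    | zero => exact le_of_le_of_eq le_top (by rfl)
    | succ i ih =>
      rw [Subgroup.lowerCentralSeries_succ]
      refine le_trans ?_ (Subgroup.commutator_mono ih (le_top (a := C.subgroupOf P)))
      rw [← Subgroup.map_le_map_iff_of_injective P.subtype_injective, Subgroup.map_commutator,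
        Subgroup.map_subgroupOf_eq_of_le hT, Subgroup.map_subgroupOf_eq_of_le hC]
      exact h
  have h0 := key k
  rw [hk, le_bot_iff, Subgroup.subgroupOf_eq_bot, disjoint_iff, inf_eq_left.2 hT] at h0
  exact h0

/-- An element of odd order commuting with a `2`-group `C` of operators on `M` and trivial on
`M / [M, C]` is trivial on `M`. -/
theorem trivial_of_trivial_quotient [Finite G] {M C : Subgroup G}
    (hM : IsElementaryAbelian 2 M)
    (hC : IsPGroup 2 C) (hCM : C ≤ Subgroup.normalizer (M : Set G)) {y : G}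
    (hy : Odd (orderOf y)) (hyM : y ∈ Subgroup.normalizer (M : Set G))
    (hyC : y ∈ Subgroup.centralizer (C : Set G))
    (h : ⁅M, Subgroup.zpowers y⁆ ≤ ⁅M, C⁆) :
    y ∈ Subgroup.centralizer (M : Set G) := by
  haveI := hM.1
  set Y := Subgroup.zpowers y with hYdef
  have hYM : Y ≤ Subgroup.normalizer (M : Set G) := Subgroup.zpowers_le.2 hyM
  have hcop : (Nat.card Y).Coprime (Nat.card M) := by
    obtain ⟨k, hk⟩ := IsPGroup.iff_card.1 (isPGroup_el hM)
    rw [hYdef, Nat.card_zpowers, hk]
    exact (Nat.coprime_two_right.2 hy).pow_right _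
  have hCy : C ≤ Subgroup.normalizer (Y : Set G) :=
    le_trans (Subgroup.le_centralizer_iff.1 (Subgroup.zpowers_le.2 hyC))
      (Subgroup.centralizer_le_normalizer _)
  set T := ⁅M, Y⁆ with hTdef
  set F := M ⊓ Subgroup.centralizer (Y : Set G) with hFdef
  have hTM : T ≤ M := Subgroup.le_normalizer_iff_commutator_le_left.1 hYM
  have hCT : C ≤ Subgroup.normalizer (T : Set G) := fun c hc =>
    mem_normalizer_commutator (hCM hc) (hCy hc)
  have hCF : C ≤ Subgroup.normalizer (F : Set G) := fun c hc => by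
    have h1 := hCM hc
    have h2 := mem_normalizer_centralizer (hCy hc)
    rw [mem_normalizer_iff_cj] at h1 h2 ⊢
    rw [hFdef, cj, Subgroup.map_inf _ _ _ (MulAut.conj c).injective]
    exact congrArg₂ (· ⊓ ·) h1 h2
  have hd : F ⊓ T = ⊥ := centralizer_inf_commutator_eq_bot hYM hcop
  have hFC : ⁅F, C⁆ ≤ F := Subgroup.le_normalizer_iff_commutator_le_left.1 hCF
  have hTC : ⁅T, C⁆ ≤ T := Subgroup.le_normalizer_iff_commutator_le_left.1 hCT
  have hMC : ⁅M, C⁆ ≤ ⁅F, C⁆ ⊔ ⁅T, C⁆ := by
    rw [Subgroup.commutator_le]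
    intro m hm c hc
    obtain ⟨f, hf, hft⟩ := exists_commutator_mul_centralizer hYM hcop
      (Or.inr (Group.isSolvable_of_comm fun u v => mul_comm' u v)) hm
    obtain ⟨t, ht, rfl⟩ : ∃ t ∈ T, m = f * t := ⟨m * f⁻¹, hft, by
      rw [comm_el hM hf.1 (hTM hft), inv_mul_cancel_right]⟩
    rw [show ⁅f * t, c⁆ = f * ⁅t, c⁆ * f⁻¹ * ⁅f, c⁆ by simp only [commutatorElement_def]; group]
    refine mul_mem ?_ (Subgroup.mem_sup_left (Subgroup.commutator_mem_commutator hf hc))
    have h1 : f * ⁅t, c⁆ * f⁻¹ = ⁅t, c⁆ := by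
      rw [comm_el hM hf.1 (hTM (hTC (Subgroup.commutator_mem_commutator ht hc))),
        mul_inv_cancel_right]
    rw [h1]
    exact Subgroup.mem_sup_right (Subgroup.commutator_mem_commutator ht hc)
  have hT : T ≤ ⁅T, C⁆ := by
    intro t ht
    have ht' := hMC (h ht)
    obtain ⟨u, hu, v, hv, huv⟩ := exists_mul_of_mem_sup
      ((hFC.trans inf_le_left).trans (el_le_normalizer hM (hTC.trans hTM))) ht'
    have : u ∈ F ⊓ T := ⟨hFC hu, by
      have : u = t * v⁻¹ := by rw [← huv, mul_inv_cancel_right]
      rw [this]; exact T.mul_mem ht (T.inv_mem (hTC hv))⟩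
    rw [hd, Subgroup.mem_bot] at this
    rw [← huv, this, one_mul]
    exact hv
  haveI : Fact (Nat.Prime 2) := ⟨Nat.prime_two⟩
  have hbot : T = ⊥ := eq_bot_of_le_commutator (P := T ⊔ C)
    (((isPGroup_el hM).to_le hTM).to_sup_of_normal_left' hC hCT) le_sup_left le_sup_right hT
  rw [Subgroup.mem_centralizer_iff]
  intro m hm
  exact (Subgroup.mem_centralizer_iff.1
    (Subgroup.commutator_eq_bot_iff_le_centralizer.1 hbot hm) y (Subgroup.mem_zpowers y)).symm

end CfsgLib.LocalEven.SzL2
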