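import Cfsg.Agent.Lib.KnownB.PSLAut.Main
import Cfsg.Agent.Lib.KnownB.PSLAut.Out
import Cfsg.Agent.Lib.Classical.Order

/-!
Involutory automorphisms and elementary abelian `2`-subgroups of `PSL₂(3^f)`, `f` odd.
-/

set_option autoImplicit false
set_option linter.style.haveILetI false

namespace CfsgLib.LocalEven.SzL2.Three

open Matrix CfsgLib.KnownB.PSLAut

variable {F : Type} [Field F] [Fintype F] {n : ℕ}

local notation "SL2" => Matrix.SpecialLinearGroup (Fin 2) F
local notation "PSL2" => Matrix.ProjectiveSpecialLinearGroup (Fin 2) F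
local notation "M2" => Matrix (Fin 2) (Fin 2) F

theorem ringChar_eq (hF : Fintype.card F = 3 ^ (2 * n + 1)) : CharP F 3 := by
  haveI : Fact (Nat.Prime 3) := ⟨Nat.prime_three⟩
  exact charP_of_card_eq_prime_pow (f := 2 * n + 1) hF

theorem card_mod_four (hF : Fintype.card F = 3 ^ (2 * n + 1)) : Fintype.card F % 4 = 3 := by
  rw [hF, pow_succ, pow_mul]
  have : (3 ^ 2) ^ n % 4 = 1 := by rw [Nat.pow_mod]; norm_num
  omega

theorem not_isSquare_neg_one (hF : Fintype.card F = 3 ^ (2 * n + 1)) : ¬ IsSquare (-1 : F) := by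
  rw [FiniteField.isSquare_neg_one_iff, card_mod_four hF]
  simp

theorem two_ne (hF : Fintype.card F = 3 ^ (2 * n + 1)) : (2 : F) ≠ 0 := by
  haveI := ringChar_eq hF
  intro h
  have := (CharP.cast_eq_zero_iff F 3 2).1 (by exact_mod_cast h)
  omega

/-- Of `x` and `-x` one is a square. -/
theorem isSquare_or_neg (hF : Fintype.card F = 3 ^ (2 * n + 1)) (x : F) :
    IsSquare x ∨ IsSquare (-x) := by
  rcases eq_or_ne x 0 with rfl | hx
  · exact Or.inl IsSquare.zero
  have hchar : ringChar F ≠ 2 := by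
    haveI := ringChar_eq hF
    rw [ringChar.eq F 3]; norm_num
  have hneg : (-1 : F) ^ (Fintype.card F / 2) = -1 := by
    have := card_mod_four hF
    exact Odd.neg_one_pow (Nat.odd_iff.2 (by omega))
  rcases FiniteField.pow_dichotomy hchar hx with h | h
  · exact Or.inl ((FiniteField.isSquare_iff hchar hx).2 h)
  · refine Or.inr ((FiniteField.isSquare_iff hchar (neg_ne_zero.2 hx)).2 ?_)
    rw [show -x = (-1 : F) * x by ring, mul_pow, h, hneg]
    ring

theorem gal_sq (hF : Fintype.card F = 3 ^ (2 * n + 1)) {σ : F ≃+* F} (h : σ * σ = 1) : σ = 1 := by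
  haveI : Fact (Nat.Prime 3) := ⟨Nat.prime_three⟩
  haveI : Finite (F ≃+* F) := Finite.of_injective _ DFunLike.coe_injective
  have h1 : orderOf σ ∣ 2 := orderOf_dvd_of_pow_eq_one (by rw [sq, h])
  have h2 : orderOf σ ∣ 2 * n + 1 := by
    rw [← card_gal (F := F) (p := 3) (f := 2 * n + 1) (by omega) hF]
    exact orderOf_dvd_natCard _
  have h3 := Nat.dvd_gcd h1 h2
  rw [show Nat.gcd 2 (2 * n + 1) = 1 from (Nat.coprime_two_left.2 ⟨n, rfl⟩)] at h3
  exact orderOf_eq_one_iff.1 (Nat.eq_one_of_dvd_one h3)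

/-- An involutory automorphism is inner or inverts an element of order three. -/
theorem inner_or_inverts_three (hF : Fintype.card F = 3 ^ (2 * n + 1)) (α : MulAut PSL2)
    (hα : α * α = 1) :
    (∃ u : PSL2, α = MulAut.conj u) ∨ ∃ z : PSL2, orderOf z = 3 ∧ α z = z⁻¹ := by
  obtain ⟨g, σ, e, he, rfl⟩ := decomp le_rfl α
  obtain rfl : e = 1 := he.resolve_right fun h => by omega
  rw [mul_one] at hα ⊢
  have hσg : δ g * fld σ * (δ g * fld σ) =
      δ (g * Matrix.GeneralLinearGroup.map (σ : F →+* F) g) * fld (σ * σ) := by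
    rw [map_mul, map_mul, mul_assoc, ← mul_assoc (fld σ), fld_δ]
    simp only [mul_assoc]
  rw [hσg] at hα
  obtain ⟨hc, hσ⟩ := δ_fld_eq_one le_rfl hα
  obtain rfl := gal_sq hF hσ
  rw [map_one, mul_one]
  have hgg : Matrix.GeneralLinearGroup.map ((1 : F ≃+* F) : F →+* F) g = g := by
    apply Units.ext
    ext i j
    simp
  rw [hgg] at hc
  obtain ⟨c, hcg⟩ := (mem_center_iff_scalar _).1 hc
  have hm : (g : M2) * (g : M2) = scalar (Fin 2) (c : F) := by
    rw [← Units.val_mul, ← hcg]; rfl
  set a := (g : M2) 0 0 with ha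
  set b := (g : M2) 0 1 with hb
  set q := (g : M2) 1 0 with hq
  set d := (g : M2) 1 1 with hd
  have e00 : a * a + b * q = (c : F) := by
    simpa [Matrix.mul_apply, Fin.sum_univ_two] using congrFun (congrFun hm 0) 0
  have e01 : a * b + b * d = 0 := by
    simpa [Matrix.mul_apply, Fin.sum_univ_two] using congrFun (congrFun hm 0) 1
  have e10 : q * a + d * q = 0 := by
    simpa [Matrix.mul_apply, Fin.sum_univ_two] using congrFun (congrFun hm 1) 0
  have e11 : q * b + d * d = (c : F) := by
    simpa [Matrix.mul_apply, Fin.sum_univ_two] using congrFun (congrFun hm 1) 1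
  have hdet : (g : M2).det = a * d - b * q := Matrix.det_fin_two _
  by_cases hsq : IsSquare (g : M2).det
  · -- inner
    obtain ⟨r, hr⟩ := hsq
    have hr0 : r ≠ 0 := by
      rintro rfl
      rw [mul_zero] at hr
      exact absurd hr ((Matrix.isUnit_iff_isUnit_det _).1 g.isUnit).ne_zero
    let s : SL2 := ⟨r⁻¹ • (g : M2), by
      rw [Matrix.det_smul, Fintype.card_fin, hr]; field_simp⟩
    refine Or.inl ⟨QuotientGroup.mk s, ?_⟩
    refine MulEquiv.ext fun x => ?_
    induction x using QuotientGroup.induction_on with | H t => ?_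
    rw [δ_mk, MulAut.conj_apply, ← QuotientGroup.mk_inv, ← QuotientGroup.mk_mul,
      ← QuotientGroup.mk_mul]
    refine congrArg _ ?_
    rw [eq_mul_inv_iff_mul_eq]
    apply Subtype.ext
    rw [Matrix.SpecialLinearGroup.coe_mul, Matrix.SpecialLinearGroup.coe_mul, conjSL_coe]
    show (g : M2) * (t : M2) * ((g⁻¹ : GL (Fin 2) F) : M2) * (r⁻¹ • (g : M2)) =
      (r⁻¹ • (g : M2)) * (t : M2)
    rw [Matrix.mul_smul, mul_assoc, Units.inv_mul, mul_one, Matrix.smul_mul]
  · -- `g` has trace zero and eigenvalues `±λ`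
    have hd : d = -a := by
      by_contra hne
      have hne' : a + d ≠ 0 := fun h => hne (eq_neg_of_add_eq_zero_right h)
      have hb0 : b = 0 := (mul_eq_zero.1 (show b * (a + d) = 0 by linear_combination e01)).resolve_right hne'
      have hq0 : q = 0 := (mul_eq_zero.1 (show q * (a + d) = 0 by linear_combination e10)).resolve_right hne'
      have had : (a - d) * (a + d) = 0 := by linear_combination e00 - e11
      have : a = d := sub_eq_zero.1 ((mul_eq_zero.1 had).resolve_right hne')
      exact hsq ⟨a, by rw [hdet, hb0, ← this]; ring⟩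
    obtain ⟨l, hl⟩ : IsSquare (a * a + b * q) := by
      rcases isSquare_or_neg hF (a * a + b * q) with h | h
      · exact h
      · exact absurd (by rw [hdet, hd]; convert h using 1; ring) hsq
    obtain ⟨N, hN0, hNN, hgN⟩ : ∃ N : M2, N ≠ 0 ∧ N * N = 0 ∧ (g : M2) * N = -(N * (g : M2)) := by
      have hg : (g : M2) = !![a, b; q, -a] := by rw [← hd]; exact Matrix.eta_fin_two _
      rcases eq_or_ne b 0 with hb0 | hb0
      · refine ⟨!![0, 0; 1, 0], fun h => ?_, ?_, ?_⟩
        · simpa using congrFun (congrFun h 1) 0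
        · ext i j; fin_cases i <;> fin_cases j <;> simp [Matrix.mul_apply, Fin.sum_univ_two]
        · rw [hg, hb0]
          ext i j
          fin_cases i <;> fin_cases j <;> simp [Matrix.mul_apply, Fin.sum_univ_two]
      · refine ⟨!![(l + a) * b, b * b; -((l + a) * (l + a)), -((l + a) * b)], fun h => ?_, ?_, ?_⟩
        · exact hb0 (by simpa using congrFun (congrFun h 0) 1)
        · ext i j
          fin_cases i <;> fin_cases j <;> simp [Matrix.mul_apply, Fin.sum_univ_two] <;> ring
        · rw [hg]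
          ext i j
          fin_cases i <;> fin_cases j <;> simp [Matrix.mul_apply, Fin.sum_univ_two]
          · linear_combination b * hl
          · ring
          · ring
          · linear_combination b * hl
    haveI := ringChar_eq hF
    have h00 : N 0 0 * N 0 0 + N 0 1 * N 1 0 = 0 := by
      simpa [Matrix.mul_apply, Fin.sum_univ_two] using congrFun (congrFun hNN 0) 0
    have h11 : N 1 0 * N 0 1 + N 1 1 * N 1 1 = 0 := by
      simpa [Matrix.mul_apply, Fin.sum_univ_two] using congrFun (congrFun hNN 1) 1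
    have h01 : N 0 0 * N 0 1 + N 0 1 * N 1 1 = 0 := by
      simpa [Matrix.mul_apply, Fin.sum_univ_two] using congrFun (congrFun hNN 0) 1
    have ht : N 0 0 + N 1 1 = 0 := by
      by_contra ht
      have k1 : N 0 1 = 0 :=
        (mul_eq_zero.1 (show N 0 1 * (N 0 0 + N 1 1) = 0 by linear_combination h01)).resolve_right ht
      rw [k1] at h00 h11
      have k2 : N 0 0 = 0 := mul_self_eq_zero.1 (by linear_combination h00)
      have k3 : N 1 1 = 0 := mul_self_eq_zero.1 (by linear_combination h11)
      exact ht (by rw [k2, k3, add_zero])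
    have hNdet : (1 + N).det = 1 := by
      rw [Matrix.det_fin_two]
      simp [show N 1 1 = -N 0 0 by linear_combination ht]
      linear_combination -h00
    let z : SL2 := ⟨1 + N, hNdet⟩
    have hz3 : z ^ 3 = 1 := by
      apply Subtype.ext
      have h3 : (3 : F) = 0 := by exact_mod_cast CharP.cast_eq_zero F 3
      rw [Matrix.SpecialLinearGroup.coe_pow, Matrix.SpecialLinearGroup.coe_one]
      show (1 + N) ^ 3 = 1
      have : (1 + N) ^ 3 = 1 + (N + N + N) + (N * N + N * N + N * N) + N * (N * N) := by noncomm_ring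
      rw [this, hNN, show N + N + N = (3 : F) • N by
        rw [show (3 : F) = 1 + 1 + 1 by norm_num, add_smul, add_smul, one_smul], h3]
      simp
    refine Or.inr ⟨QuotientGroup.mk z, orderOf_eq_prime (hp := ⟨Nat.prime_three⟩) ?_ ?_, ?_⟩
    · rw [← QuotientGroup.mk_pow, hz3, QuotientGroup.mk_one]
    · intro h
      rw [QuotientGroup.eq_one_iff] at h
      obtain ⟨r, hr, hrz⟩ := Matrix.SpecialLinearGroup.mem_center_iff.1 h
      have hz : N = scalar (Fin 2) (r - 1) := by
        rw [map_sub, map_one]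
        exact eq_sub_of_add_eq' (hrz.symm)
      refine hN0 ?_
      rw [hz] at hNN ⊢
      rw [← map_mul] at hNN
      have : (r - 1) * (r - 1) = 0 := by
        simpa using congrFun (congrFun hNN 0) 0
      rw [mul_self_eq_zero.1 this, map_zero]
    · rw [δ_mk, ← QuotientGroup.mk_inv]
      refine congrArg _ ?_
      rw [eq_inv_iff_mul_eq_one]
      apply Subtype.ext
      rw [Matrix.SpecialLinearGroup.coe_mul, Matrix.SpecialLinearGroup.coe_one, conjSL_coe]
      show (g : M2) * (1 + N) * ((g⁻¹ : GL (Fin 2) F) : M2) * (1 + N) = 1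
      have hconj : (g : M2) * (1 + N) * ((g⁻¹ : GL (Fin 2) F) : M2) = 1 - N := by
        rw [mul_add, mul_one, hgN, add_mul, Units.mul_inv, neg_mul, mul_assoc N, Units.mul_inv,
          mul_one, ← sub_eq_add_neg]
      rw [hconj, show (1 - N) * (1 + N) = 1 - N * N by noncomm_ring, hNN, sub_zero]

/-- The Sylow `2`-subgroups have order at most four. -/
theorem card_two_le (hF : Fintype.card F = 3 ^ (2 * n + 1)) {k : ℕ}
    (h : 2 ^ k ∣ Nat.card PSL2) : k ≤ 2 := by
  by_contra hk
  have h8 : 8 ∣ Nat.card PSL2 := (pow_dvd_pow 2 (show 3 ≤ k by omega)).trans h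
  have hq : Nat.card F = 3 ^ (2 * n + 1) := by rw [Nat.card_eq_fintype_card, hF]
  have hodd : Odd (Nat.card F) := by rw [hq]; exact Odd.pow (by decide)
  have e := CfsgLib.Classical.card_PSL_two_mul (F := F)
  rw [CfsgLib.Classical.gcd_two_card_sub_one_of_odd hodd] at e
  have h16 : 16 ∣ Nat.card F * (Nat.card F ^ 2 - 1) := e ▸ Nat.mul_dvd_mul_left 2 h8
  have h16' : 16 ∣ Nat.card F ^ 2 - 1 :=
    (Nat.Coprime.pow_left 4 (Nat.coprime_two_left.2 hodd)).dvd_of_dvd_mul_left h16
  have hm : Nat.card F % 8 = 3 := by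
    rw [hq, pow_succ, pow_mul, Nat.mul_mod, Nat.pow_mod]
    norm_num
  obtain ⟨t, ht⟩ : ∃ t, Nat.card F = 8 * t + 3 := ⟨Nat.card F / 8, by omega⟩
  rw [ht] at h16'
  have : (8 * t + 3) ^ 2 - 1 = 16 * (4 * t * t + 3 * t) + 8 := by
    have : (8 * t + 3) ^ 2 = 16 * (4 * t * t + 3 * t) + 9 := by ring
    omega
  rw [this] at h16'
  omega

/-- In the centraliser of an involution an element of odd order is inverted by each other commuting
involution. -/
theorem exists_inverted_in_centralizer (hF : Fintype.card F = 3 ^ (2 * n + 1)) (hn : 1 ≤ n)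
    {u₁ u₂ : PSL2} (h1 : u₁ * u₁ = 1) (h1' : u₁ ≠ 1) (h2 : u₂ * u₂ = 1) (h2' : u₂ ≠ 1)
    (hne : u₁ ≠ u₂) (hc : u₁ * u₂ = u₂ * u₁) :
    ∃ x : PSL2, Odd (orderOf x) ∧ x ≠ 1 ∧ u₁ * x = x * u₁ ∧ u₂ * x * u₂⁻¹ = x⁻¹ := by
  classical
  have h2F := two_ne hF
  have hns := not_isSquare_neg_one hF
  have lift : ∀ u : PSL2, u * u = 1 → u ≠ 1 → ∃ s : SL2, (QuotientGroup.mk s : PSL2) = u ∧
      (s : M2) * (s : M2) = -1 := by
    intro u hu hu'
    obtain ⟨s, rfl⟩ := QuotientGroup.mk_surjective u
    refine ⟨s, rfl, ?_⟩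
    rw [← QuotientGroup.mk_mul, QuotientGroup.eq_one_iff] at hu
    obtain ⟨r, hr, hrs⟩ := Matrix.SpecialLinearGroup.mem_center_iff.1 hu
    rw [Matrix.SpecialLinearGroup.coe_mul] at hrs
    rw [Fintype.card_fin, sq, mul_self_eq_one_iff] at hr
    rcases hr with rfl | rfl
    · exfalso
      rw [map_one] at hrs
      apply hu'
      rw [QuotientGroup.eq_one_iff]
      have e := congrArg (fun m : M2 => m) hrs
      have e00 := congrFun (congrFun hrs 0) 0
      have e01 := congrFun (congrFun hrs 0) 1
      have e10 := congrFun (congrFun hrs 1) 0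
      have hdet := s.2
      rw [Matrix.det_fin_two] at hdet
      simp [Matrix.mul_apply, Fin.sum_univ_two] at e00 e01 e10
      have ht : (s : M2) 0 0 + (s : M2) 1 1 ≠ 0 := by
        intro ht
        refine h2F ?_
        linear_combination e00 - hdet + (s : M2) 0 0 * ht
      have hb : (s : M2) 0 1 = 0 :=
        (mul_eq_zero.1 (show (s : M2) 0 1 * ((s : M2) 0 0 + (s : M2) 1 1) = 0 by
          linear_combination -e01)).resolve_right ht
      have hq : (s : M2) 1 0 = 0 :=
        (mul_eq_zero.1 (show (s : M2) 1 0 * ((s : M2) 0 0 + (s : M2) 1 1) = 0 by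
          linear_combination -e10)).resolve_right ht
      rw [hb, hq] at e00 hdet
      refine Matrix.SpecialLinearGroup.mem_center_iff.2 ⟨(s : M2) 0 0, ?_, ?_⟩
      · rw [Fintype.card_fin]; linear_combination -e00
      · have hda : (s : M2) 1 1 = (s : M2) 0 0 := by
          linear_combination (s : M2) 1 1 * e00 + (s : M2) 0 0 * hdet
        ext i j
        fin_cases i <;> fin_cases j <;> simp [hb, hq, hda]
    · rw [← hrs, map_neg, map_one]
  obtain ⟨s₁, rfl, hs1⟩ := lift u₁ h1 h1'
  obtain ⟨s₂, rfl, hs2⟩ := lift u₂ h2 h2'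
  -- the shape of `s₁`
  have hs1det := s₁.2
  rw [Matrix.det_fin_two] at hs1det
  set a := (s₁ : M2) 0 0 with ha
  set b := (s₁ : M2) 0 1 with hb
  set q := (s₁ : M2) 1 0 with hq
  have e00 : a * a + b * q = -1 := by
    simpa [Matrix.mul_apply, Fin.sum_univ_two] using congrFun (congrFun hs1 0) 0
  have hd : (s₁ : M2) 1 1 = -a := by
    have hb0 : a + (s₁ : M2) 1 1 = 0 := by
      have e01 : a * b + b * (s₁ : M2) 1 1 = 0 := by
        simpa [Matrix.mul_apply, Fin.sum_univ_two] using congrFun (congrFun hs1 0) 1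
      rcases eq_or_ne b 0 with h | h
      · exact absurd ⟨a, by rw [h] at e00; linear_combination -e00⟩ hns
      · exact (mul_eq_zero.1 (show b * (a + (s₁ : M2) 1 1) = 0 by
          linear_combination e01)).resolve_left h
    linear_combination hb0
  have hb0 : b ≠ 0 := fun h => hns ⟨a, by rw [h] at e00; linear_combination -e00⟩
  have hform : ∀ h : M2, h * (s₁ : M2) = (s₁ : M2) * h →
      ∃ α β : F, h = α • (1 : M2) + β • (s₁ : M2) := by
    intro h hh
    refine ⟨h 0 0 - h 0 1 / b * a, h 0 1 / b, ?_⟩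
    have f00 := congrFun (congrFun hh 0) 0
    have f01 := congrFun (congrFun hh 0) 1
    simp [Matrix.mul_apply, Fin.sum_univ_two, hd, ← ha, ← hb, ← hq] at f00 f01
    have g10 : h 1 0 = h 0 1 / b * q := by
      field_simp
      linear_combination -f00
    have g11 : h 1 1 = h 0 0 - h 0 1 / b * a + h 0 1 / b * (-a) := by
      field_simp
      linear_combination -f01
    ext i j
    fin_cases i <;> fin_cases j <;> simp [← ha, ← hb, ← hq, hd]
    · field_simp
    · exact g10
    · rw [g11]; ring
  -- `s₂` anticommutes with `s₁`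
  have hanti : (s₂ : M2) * (s₁ : M2) = -((s₁ : M2) * (s₂ : M2)) := by
    have hz : (s₂ * s₁)⁻¹ * (s₁ * s₂) ∈ Subgroup.center SL2 := by
      rw [← QuotientGroup.eq]; exact hc.symm
    obtain ⟨r, hr, hrs⟩ := Matrix.SpecialLinearGroup.mem_center_iff.1 hz
    rw [Fintype.card_fin, sq, mul_self_eq_one_iff] at hr
    have e : (s₁ : M2) * (s₂ : M2) = (s₂ : M2) * (s₁ : M2) * scalar (Fin 2) r := by
      rw [hrs, ← Matrix.SpecialLinearGroup.coe_mul, ← Matrix.SpecialLinearGroup.coe_mul,
        ← Matrix.SpecialLinearGroup.coe_mul, mul_inv_cancel_left]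
    rcases hr with rfl | rfl
    · exfalso
      rw [map_one, mul_one] at e
      obtain ⟨α, β, hαβ⟩ := hform _ e.symm
      rw [hαβ] at hs2
      have h' : (α * α - β * β) • (1 : M2) + (2 * α * β) • (s₁ : M2) = -1 := by
        rw [← hs2]
        simp only [add_mul, mul_add, Matrix.smul_mul, Matrix.mul_smul, smul_smul, mul_one, one_mul,
          hs1, smul_neg]
        module
      have k01 : 2 * α * β * b = 0 := by simpa [← hb] using congrFun (congrFun h' 0) 1
      have k00 : α * α - β * β + 2 * α * β * a = -1 := by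
        simpa [← ha] using congrFun (congrFun h' 0) 0
      rcases mul_eq_zero.1 ((mul_eq_zero.1 k01).resolve_right hb0) with h | h
      · have hα : α = 0 := (mul_eq_zero.1 h).resolve_left h2F
        subst hα
        rcases mul_self_eq_one_iff.1 (show β * β = 1 by linear_combination -k00) with rfl | rfl
        · exact hne (congrArg _ (Subtype.ext (by rw [hαβ]; simp)))
        · apply hne
          rw [QuotientGroup.eq, Matrix.SpecialLinearGroup.mem_center_iff]
          refine ⟨-1, by simp, ?_⟩
          have hi : ((s₁⁻¹ : SL2) : M2) = -(s₁ : M2) := by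
            have h0 : (s₁ : M2) * -(s₁ : M2) = 1 := by rw [mul_neg, hs1, neg_neg]
            calc ((s₁⁻¹ : SL2) : M2) = ((s₁⁻¹ : SL2) : M2) * ((s₁ : M2) * -(s₁ : M2)) := by
                  rw [h0, mul_one]
              _ = -(s₁ : M2) := by
                rw [← mul_assoc, ← Matrix.SpecialLinearGroup.coe_mul, inv_mul_cancel,
                  Matrix.SpecialLinearGroup.coe_one, one_mul]
          rw [Matrix.SpecialLinearGroup.coe_mul, hi, hαβ, map_neg, map_one]
          simp [hs1]
      · subst h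
        exact hns ⟨α, by linear_combination -k00⟩
    · rw [e, map_neg, map_one, mul_neg, mul_one, neg_neg]
  -- the norm-one group
  have hmemC : ∀ α β : F, α * α + β * β = 1 → (α • (1 : M2) + β • (s₁ : M2)).det = 1 := by
    intro α β h
    rw [Matrix.det_fin_two]
    simp [← ha, ← hb, ← hq, hd]
    linear_combination h + (-(β * β)) * e00
  let T : Subgroup SL2 := Subgroup.centralizer {s₁}
  let mkC : ∀ α β : F, α * α + β * β = 1 → SL2 := fun α β h =>
    ⟨α • (1 : M2) + β • (s₁ : M2), hmemC α β h⟩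
  have hT : ∀ α β : F, ∀ h : α * α + β * β = 1, mkC α β h ∈ T := fun α β h => by
    refine Subgroup.mem_centralizer_singleton_iff.2 ?_
    apply Subtype.ext
    rw [Matrix.SpecialLinearGroup.coe_mul, Matrix.SpecialLinearGroup.coe_mul]
    show (α • (1 : M2) + β • (s₁ : M2)) * (s₁ : M2) = (s₁ : M2) * (α • (1 : M2) + β • (s₁ : M2))
    simp [add_mul, mul_add]
  have hden : ∀ t : F, 1 + t * t ≠ 0 := fun t h => hns ⟨t, by linear_combination -h⟩
  have hcardT : Fintype.card F + 1 ≤ Nat.card T := by
    have hone : ∀ o : Option F,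
        (o.elim (-1 : F) fun t => (1 - t * t) / (1 + t * t)) ^ 2 +
          (o.elim (0 : F) fun t => 2 * t / (1 + t * t)) ^ 2 = 1 := by
      rintro (_ | t)
      · simp
      · have := hden t
        simp only [Option.elim]
        rw [div_pow, div_pow, ← add_div, div_eq_one_iff_eq (pow_ne_zero 2 this)]
        ring
    let φ : Option F → T := fun o =>
      ⟨mkC (o.elim (-1) fun t => (1 - t * t) / (1 + t * t))
        (o.elim 0 fun t => 2 * t / (1 + t * t)) (by simpa [sq] using hone o),
        hT _ _ (by simpa [sq] using hone o)⟩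
    rw [← Fintype.card_option, ← Nat.card_eq_fintype_card]
    refine Nat.card_le_card_of_injective φ fun o o' h => ?_
    have hm : (φ o).1.1 = (φ o').1.1 := by rw [h]
    have h01 := congrFun (congrFun hm 0) 1
    have h00 := congrFun (congrFun hm 0) 0
    simp [φ, mkC, ← ha, ← hb, hb0] at h01 h00
    rw [h01] at h00
    have hα := add_right_cancel h00
    rcases o with _ | t <;> rcases o' with _ | t' <;> simp only [Option.elim] at hα h01
    · rfl
    · exfalso
      rw [eq_div_iff (hden t')] at hα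
      exact h2F (by linear_combination -hα)
    · exfalso
      rw [div_eq_iff (hden t)] at hα
      exact h2F (by linear_combination hα)
    · rw [div_eq_div_iff (hden t) (hden t')] at hα h01
      have e : 1 + t * t = 1 + t' * t' := mul_right_cancel₀ h2F (by linear_combination -hα)
      refine congrArg some (mul_left_cancel₀ h2F (mul_right_cancel₀ (hden t) ?_))
      rw [← e] at h01
      exact h01
  -- an element of odd prime order in it
  obtain ⟨x, hxT, hxo, hx1⟩ : ∃ x ∈ T, Odd (orderOf x) ∧ x ≠ 1 := by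
    by_contra hcon
    push Not at hcon
    haveI : Fact (Nat.Prime 2) := ⟨Nat.prime_two⟩
    have hp : IsPGroup 2 T := by
      rintro ⟨y, hy⟩
      obtain ⟨k, m, hm, hym⟩ :=
        Nat.exists_eq_pow_mul_and_not_dvd (orderOf_pos y).ne' 2 (by norm_num)
      refine ⟨k, Subtype.ext (hcon (y ^ 2 ^ k) (T.pow_mem hy _) ?_)⟩
      rw [orderOf_pow_of_dvd (by positivity) (Dvd.intro m hym.symm), hym,
        Nat.mul_div_cancel_left _ (by positivity)]
      exact Nat.odd_iff.2 (by omega)
    obtain ⟨k, hk⟩ := IsPGroup.iff_card.1 hp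
    have hd : Nat.card T ∣ Nat.card SL2 := Subgroup.card_subgroup_dvd_card T
    rw [hk, CfsgLib.Classical.card_SL_two] at hd
    have hodd : Odd (Nat.card F) := by
      rw [Nat.card_eq_fintype_card, hF]; exact Odd.pow (by decide)
    have e := CfsgLib.Classical.card_PSL_two_mul (F := F)
    rw [CfsgLib.Classical.gcd_two_card_sub_one_of_odd hodd] at e
    rw [← e] at hd
    have hk3 : k ≤ 3 := by
      by_contra hk3
      have : 2 * 2 ^ (k - 1) ∣ 2 * Nat.card PSL2 := by
        rwa [← pow_succ', show k - 1 + 1 = k by omega]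
      have := card_two_le hF ((Nat.mul_dvd_mul_iff_left two_pos).1 this)
      omega
    have h27 : 27 ≤ Fintype.card F := by
      rw [hF]
      calc 27 = 3 ^ 3 := rfl
        _ ≤ _ := Nat.pow_le_pow_right (by norm_num) (by omega)
    have : Nat.card T ≤ 8 := by
      rw [hk]; exact (Nat.pow_le_pow_right two_pos hk3)
    omega
  obtain ⟨α, β, hx⟩ := hform (x : M2) (by
    rw [← Matrix.SpecialLinearGroup.coe_mul, ← Matrix.SpecialLinearGroup.coe_mul,
      Subgroup.mem_centralizer_singleton_iff.1 hxT])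
  refine ⟨QuotientGroup.mk x, hxo.of_dvd_nat (orderOf_map_dvd (QuotientGroup.mk' _) x), ?_, ?_, ?_⟩
  · intro h
    rw [QuotientGroup.eq_one_iff] at h
    obtain ⟨r, hr, hrx⟩ := Matrix.SpecialLinearGroup.mem_center_iff.1 h
    rw [Fintype.card_fin] at hr
    have hx2 : x ^ 2 = 1 := by
      apply Subtype.ext
      rw [Matrix.SpecialLinearGroup.coe_pow, Matrix.SpecialLinearGroup.coe_one, ← hrx, ← map_pow,
        hr, map_one]
    exact hx1 (orderOf_eq_one_iff.1 (Nat.eq_one_of_dvd_coprimes
      (Nat.coprime_two_right.2 hxo) dvd_rfl (orderOf_dvd_of_pow_eq_one hx2)))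
  · rw [← QuotientGroup.mk_mul, ← QuotientGroup.mk_mul,
      Subgroup.mem_centralizer_singleton_iff.1 hxT]
  · rw [← QuotientGroup.mk_inv, ← QuotientGroup.mk_mul, ← QuotientGroup.mk_mul,
      ← QuotientGroup.mk_inv]
    refine congrArg _ ?_
    rw [eq_inv_iff_mul_eq_one]
    have hdet : α * α + β * β = 1 := by
      have := x.2
      rw [hx, Matrix.det_fin_two] at this
      simp [← ha, ← hb, ← hq, hd] at this
      linear_combination this + β * β * e00
    have key : (s₂ : M2) * (x : M2) = (α • (1 : M2) - β • (s₁ : M2)) * (s₂ : M2) := by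
      rw [hx, mul_add, sub_mul, Matrix.mul_smul, Matrix.mul_smul, Matrix.smul_mul, Matrix.smul_mul,
        one_mul, mul_one, hanti, smul_neg, sub_eq_add_neg]
    apply Subtype.ext
    simp only [Matrix.SpecialLinearGroup.coe_mul, Matrix.SpecialLinearGroup.coe_one]
    rw [key, mul_assoc _ (s₂ : M2), ← Matrix.SpecialLinearGroup.coe_mul s₂ s₂⁻¹, mul_inv_cancel,
      Matrix.SpecialLinearGroup.coe_one, mul_one, hx]
    simp only [sub_mul, mul_add, Matrix.smul_mul, Matrix.mul_smul, smul_smul, mul_one, one_mul,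
      hs1, smul_neg]
    have hfin : ∀ m : M2, (α * α) • (1 : M2) - (α * β) • m + ((β * α) • m - -((β * β) • (1 : M2))) =
        (α * α + β * β) • (1 : M2) := fun m => by module
    rw [hfin, hdet, one_smul]

end CfsgLib.LocalEven.SzL2.Three
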