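import Cfsg.Agent.Lib.LocalEven.ModuleBoundSz
import Cfsg.Agent.Lib.KnownA.Suzuki.Out
import Cfsg.Agent.Lib.KnownA.Suzuki.Facts

/-!
Involutory automorphisms and elementary abelian `2`-subgroups of `Sz(q)`.
-/

set_option autoImplicit false
set_option linter.style.haveILetI false

namespace CfsgLib.LocalEven.SzL2.Suz

open CfsgLib.KnownA.Suzuki

variable {F : Type} [Field F] [Fintype F] {m : ℕ}

local notation "G₀" => Cfsg.Lie.Sz F (2 ^ (m + 1))

theorem four_le_card (hm : 1 ≤ m) (hF : Fintype.card F = 2 ^ (2 * m + 1)) : 4 ≤ Nat.card F := by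
  rw [Nat.card_eq_fintype_card, hF]
  calc 4 = 2 ^ 2 := rfl
    _ ≤ _ := Nat.pow_le_pow_right two_pos (by omega)

/-- An involutory automorphism is inner. -/
theorem inner_of_sq (hm : 1 ≤ m) (hF : Fintype.card F = 2 ^ (2 * m + 1)) (α : MulAut G₀)
    (hα : α * α = 1) : ∃ u : G₀, α = MulAut.conj u := by
  have hout := natCard_out (titsField_of_card hF) hm hF
  set x : Cfsg.Out G₀ := QuotientGroup.mk α with hx
  have h1 : orderOf x ∣ 2 :=
    orderOf_dvd_of_pow_eq_one (by rw [sq, hx, ← QuotientGroup.mk_mul, hα, QuotientGroup.mk_one])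
  have h2 : orderOf x ∣ 2 * m + 1 := hout ▸ orderOf_dvd_natCard x
  have h3 := Nat.dvd_gcd h1 h2
  rw [show Nat.gcd 2 (2 * m + 1) = 1 from Nat.coprime_two_left.2 ⟨m, rfl⟩] at h3
  obtain ⟨u, hu⟩ : α ∈ Cfsg.Inn G₀ :=
    (QuotientGroup.eq_one_iff α).1 (orderOf_eq_one_iff.1 (Nat.eq_one_of_dvd_one h3))
  exact ⟨u, hu.symm⟩

/-- An elementary abelian `2`-subgroup has order at most `q`. -/
theorem card_elementary_le (hm : 1 ≤ m) (hF : Fintype.card F = 2 ^ (2 * m + 1))
    (E : Subgroup G₀) (hE : ∀ x ∈ E, x * x = 1) : Nat.card E ≤ 2 ^ (2 * m + 1) := by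
  haveI : Fact (Nat.Prime 2) := ⟨Nat.prime_two⟩
  set H := titsField_of_card hF
  have h4 := four_le_card hm hF
  have hp : IsPGroup 2 E := fun x => ⟨1, Subtype.ext (by simpa [sq] using hE x.1 x.2)⟩
  obtain ⟨P, hP⟩ := hp.exists_le_sylow
  obtain ⟨g, rfl⟩ := MulAction.exists_smul_eq G₀ (uniSylow H hF) P
  let f : E → Subgroup.center (uni H) := fun x => ⟨⟨g⁻¹ * x.1 * g, by
      have h1 := hP x.2
      rw [Sylow.smul_def, Sylow.pointwise_smul_def, Subgroup.mem_pointwise_smul_iff_inv_smul_mem] at h1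
      simpa [MulAut.smul_def, coe_uniSylow] using h1⟩, by
    rw [center_eq H h4]
    have h1 := hP x.2
    rw [Sylow.smul_def, Sylow.pointwise_smul_def, Subgroup.mem_pointwise_smul_iff_inv_smul_mem] at h1
    have h1' : g⁻¹ * x.1 * g ∈ uni H := by simpa [MulAut.smul_def, coe_uniSylow] using h1
    obtain ⟨a, b, hab⟩ := h1'
    have hsq : g⁻¹ * x.1 * g * (g⁻¹ * x.1 * g) = 1 := by
      calc _ = g⁻¹ * (x.1 * x.1) * g := by group
        _ = 1 := by rw [hE x.1 x.2]; group
    rw [hab, su_mul, ← su_zero H] at hsq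
    have h2 := (su_inj H hsq).2
    haveI : CharP F 2 := charP_of_card_eq_prime_pow hF
    have ha : a = 0 := by
      have h3 : a ^ 2 ^ (m + 1) * a = 0 := by
        linear_combination h2 - b * CharTwo.two_eq_zero (R := F)
      rcases mul_eq_zero.1 h3 with h | h
      · exact (pow_eq_zero_iff (by positivity)).1 h
      · exact h
    exact ⟨b, by rw [← ha]; exact hab⟩⟩
  refine le_of_le_of_eq (Nat.card_le_card_of_injective f fun x y h => ?_)
    (by rw [natCard_center H h4, Nat.card_eq_fintype_card, hF])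
  have := congrArg (fun z : Subgroup.center (uni H) => g * ((z : uni H) : G₀) * g⁻¹) h
  exact Subtype.ext (by simpa [f, mul_assoc] using this)

/-- A product of two conjugates of an involution has order divisible by a primitive prime. -/
theorem exists_conj (hm : 1 ≤ m) (hF : Fintype.card F = 2 ^ (2 * m + 1)) {u : G₀}
    (hu : u * u = 1) (hu1 : u ≠ 1) :
    ∃ (r : ℕ) (c : G₀), r.Prime ∧ r ≠ 2 ∧
      (∀ j : ℕ, 0 < j → r ∣ 2 ^ j - 1 → 4 * (2 * m + 1) ≤ j) ∧ r ∣ orderOf (u * (c * u * c⁻¹)) := by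
  obtain ⟨r, c, h1, h2, h3, h4⟩ := CfsgLib.LocalEven.exists_conj_Sz hm hF (MonoidHom.id G₀)
    (fun x => ⟨x, rfl⟩) u (by simpa [sq] using hu) (by simpa using hu1)
  refine ⟨r, c, h1, h2, fun j hj h => h3 j hj (by simpa using h), by simpa using h4⟩

end CfsgLib.LocalEven.SzL2.Suz
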