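import Cfsg.Agent.Lib.LocalEven.SzL2Offender.Data
import Cfsg.Agent.Lib.LocalEven.SzL2Offender.Module
import Cfsg.Agent.Lib.LocalEven.SzL2Offender.PSLTwoThree
import Cfsg.Agent.Lib.LocalEven.SzL2Offender.SuzukiFacts
import Cfsg.Agent.Lib.FgsB.OddInverted
import Cfsg.Agent.Lib.Coprime.Action2
import Cfsg.Agent.Lib.Base.Fitting
import Cfsg.Agent.Lib.Recog.OrderSixty

/-!
Every nontrivial elementary abelian `2`-subgroup of a reduced `S₃`-free group with Suzuki and
`L₂(3^odd)` factors inverts a suitable abelian group of odd order.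
-/

set_option autoImplicit false
set_option linter.style.haveILetI false

universe u

namespace CfsgLib.LocalEven.SzL2

open Cfsg CfsgLib.LocalEven.S4W CfsgLib.Techniques CfsgLib.Components CfsgLib.Coprime
open scoped commutatorElement

variable {X : Type u} [Group X] [Finite X]

theorem exists_hyperplane {A D : Subgroup X} (hA : IsElementaryAbelian 2 A) (hDA : D ≤ A)
    {a : X} (ha : a ∈ A) (haD : a ∉ D) :
    ∃ B : Subgroup X, D ≤ B ∧ B ≤ A ∧ a ∉ B ∧ B.relIndex A = 2 := by
  classical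
  obtain ⟨B, ⟨hDB, hBA, haB⟩, hmax⟩ := Set.exists_max_image
    {B : Subgroup X | D ≤ B ∧ B ≤ A ∧ a ∉ B} (fun B => Nat.card B) (Set.toFinite _)
    ⟨D, le_rfl, hDA, haD⟩
  refine ⟨B, hDB, hBA, haB, le_antisymm (relIndex_le_two (a := a) fun w hw => ?_) ?_⟩
  · by_contra hcon
    push Not at hcon
    have hn : Subgroup.zpowers w ≤ Subgroup.normalizer (B : Set X) :=
      (Subgroup.zpowers_le.2 hw).trans (el_le_normalizer hA hBA)
    have hlt : B < Subgroup.zpowers w ⊔ B := lt_of_le_of_ne le_sup_right fun h =>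
      hcon.1 (h ▸ Subgroup.mem_sup_left (Subgroup.mem_zpowers w))
    by_cases haw : a ∈ Subgroup.zpowers w ⊔ B
    · obtain ⟨_, ⟨i, rfl⟩, b, hb, hab⟩ := exists_mul_of_mem_sup hn haw
      simp only at hab
      rcases Int.even_or_odd i with ⟨k, rfl⟩ | ⟨k, rfl⟩
      · rw [← two_mul, zpow_mul, zpow_two, sq_one hA hw, one_zpow, one_mul] at hab
        exact haB (hab ▸ hb)
      · rw [zpow_add, zpow_mul, zpow_two, sq_one hA hw, one_zpow, one_mul, zpow_one] at hab
        refine hcon.2 ?_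
        rw [← hab, ← mul_assoc, sq_one hA hw, one_mul]
        exact hb
    · have h1 := hmax (Subgroup.zpowers w ⊔ B) ⟨hDB.trans le_sup_right,
        sup_le (Subgroup.zpowers_le.2 hw) hBA, haw⟩
      exact hlt.ne (Subgroup.eq_of_le_of_card_ge hlt.le h1)
  · have h1 : B.relIndex A ≠ 1 := fun h => haB (Subgroup.relIndex_eq_one.1 h ha)
    have h0 := relIndex_pos B A
    omega

theorem cj_ne {K : Subgroup X} {g h : X} (hne : g⁻¹ * h ∉ Subgroup.normalizer (K : Set X)) :
    cj h K ≠ cj g K := fun he => hne (by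
  rw [mem_normalizer_iff_cj, cj_mul, he, cj_inv_cj])

theorem mem_centralizer_cj {K L : Subgroup X} (hK : IsComponent K) (hL : IsComponent L) {g : X}
    (hne : L ≠ cj g K) : L ≤ Subgroup.centralizer (cj g K : Set X) :=
  component_le_centralizer (component_cj hK g) hL hne

omit [Finite X] in
theorem comm_cent {A : Subgroup X} (hA : IsElementaryAbelian 2 A) {b c : X} (hb : b ∈ A)
    (hc : c ∈ A) {x : X} (h : c * x = x * c) : c * (b * x * b⁻¹) = b * x * b⁻¹ * c := by
  have e := comm_el hA hc hb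
  have e' := comm_el hA hc (A.inv_mem hb)
  calc c * (b * x * b⁻¹) = b * (c * x) * b⁻¹ := by rw [← mul_assoc, ← mul_assoc, e]; group
    _ = b * x * (b⁻¹ * c) := by rw [h, mul_assoc, mul_assoc, e', ← mul_assoc]
    _ = _ := by group

omit [Finite X] in
theorem inv_cent {A : Subgroup X} (hA : IsElementaryAbelian 2 A) {b a : X} (hb : b ∈ A)
    (ha : a ∈ A) {x : X} (h : a * x * a⁻¹ = x⁻¹) : a * (b * x * b⁻¹) * a⁻¹ = (b * x * b⁻¹)⁻¹ := by
  have e := comm_el hA ha hb
  calc a * (b * x * b⁻¹) * a⁻¹ = a * b * x * (a * b)⁻¹ := by group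
    _ = b * (a * x * a⁻¹) * b⁻¹ := by rw [e]; group
    _ = _ := by rw [h]; group

omit [Finite X] in
theorem mem_center_of_mem {K : Subgroup X} {x : K}
    (h : (x : X) ∈ Subgroup.centralizer (K : Set X)) : x ∈ Subgroup.center K :=
  Subgroup.mem_center_iff.2 fun k => Subtype.ext (Subgroup.mem_centralizer_iff.1 h _ k.2)

/-- An `r`-power multiple of an element whose image has order divisible by `r`. -/
theorem exists_r_part {K : Subgroup X} {Q : Type*} [Group Q] (π : K →* Q) {r : ℕ} (hr : r.Prime)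
    (z : K) (hz : r ∣ orderOf (π z)) :
    ∃ m k : ℕ, orderOf (z ^ m) = r ^ k ∧ π (z ^ m) ≠ 1 := by
  obtain ⟨k, m, hm, hord⟩ := Nat.exists_eq_pow_mul_and_not_dvd (orderOf_pos z).ne' r hr.ne_one
  refine ⟨m, k, ?_, fun h => hm ?_⟩
  · have hm0 : 0 < m := by
      rcases Nat.eq_zero_or_pos m with rfl | h
      · exact absurd (dvd_zero r) hm
      · exact h
    rw [orderOf_pow_of_dvd hm0.ne' (Dvd.intro_left _ hord.symm), hord, Nat.mul_div_cancel _ hm0]
  · rw [map_pow] at h
    exact hz.trans (orderOf_dvd_of_pow_eq_one h)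

/-- A component of Suzuki type gives data. -/
theorem sz_data {A K : Subgroup X} (hA : IsElementaryAbelian 2 A) (hK : IsComponent K)
    (hnc : ¬ A ≤ Subgroup.centralizer (K : Set X)) {F : Type} [Field F] [Fintype F] {m : ℕ}
    (hm : 1 ≤ m) (hF : Fintype.card F = 2 ^ (2 * m + 1))
    (e : K ⧸ Subgroup.center K ≃* Cfsg.Lie.Sz F (2 ^ (m + 1))) : HasData A := by
  classical
  set π : K →* Cfsg.Lie.Sz F (2 ^ (m + 1)) := e.toMonoidHom.comp (QuotientGroup.mk' _) with hπdef
  have hπ : Function.Surjective π := e.surjective.comp (QuotientGroup.mk'_surjective _)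
  have hπ1 : ∀ x : K, π x ≠ 1 → (x : X) ∉ Subgroup.centralizer (K : Set X) := fun x h hx => h (by
    show e (QuotientGroup.mk x) = 1
    rw [(QuotientGroup.eq_one_iff x).2 (mem_center_of_mem hx), map_one])
  obtain ⟨θ, hθ, hθker⟩ := exists_autHom hK.2.1 e
  set C := A ⊓ Subgroup.centralizer (K : Set X) with hCdef
  set AK := A ⊓ Subgroup.normalizer (K : Set X) with hAKdef
  have hCA : C ≤ A := inf_le_left
  have hCne : C ≠ A := fun h => hnc (h ▸ inf_le_right)
  have hCAK : C ≤ AK := inf_le_inf_left _ (Subgroup.centralizer_le_normalizer _)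
  have hnt : Nontrivial (Cfsg.Lie.Sz F (2 ^ (m + 1))) := by
    haveI := hK.2.2
    exact e.symm.toEquiv.nontrivial
  by_cases hcase : AK ≤ C
  · -- `A` permutes the conjugates of `K` regularly modulo `C`
    obtain ⟨a, haA, haC⟩ : ∃ a ∈ A, a ∉ C := by
      by_contra h
      push Not at h
      exact hCne (le_antisymm hCA h)
    have haAK : a ∉ AK := fun h => haC (hcase h)
    obtain ⟨B, hAKB, hBA, haB, hB2⟩ := exists_hyperplane hA (inf_le_left : AK ≤ A) haA haAK
    have hEq : AK = C := le_antisymm hcase hCAK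
    -- an `r`-element of `K`
    haveI : Fact (Nat.Prime 2) := ⟨Nat.prime_two⟩
    haveI := hnt
    obtain ⟨u, hu2, hu1⟩ : ∃ u : Cfsg.Lie.Sz F (2 ^ (m + 1)), u * u = 1 ∧ u ≠ 1 := by
      set H := KnownA.Suzuki.titsField_of_card (F := F) hF
      refine ⟨KnownA.Suzuki.sz H 1, ?_, fun h => ?_⟩
      · haveI : CharP F 2 := charP_of_card_eq_prime_pow hF
        rw [KnownA.Suzuki.sz_mul, CharTwo.add_self_eq_zero]
        exact KnownA.Suzuki.su_zero H
      · exact one_ne_zero (KnownA.Suzuki.su_inj H (h.trans (KnownA.Suzuki.su_zero H).symm)).2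
    obtain ⟨r, c, hr, hr2, hd, hdvd⟩ := Suz.exists_conj hm hF hu2 hu1
    obtain ⟨z₀, hz₀⟩ := hπ (u * (c * u * c⁻¹))
    obtain ⟨m', k, hord, hne⟩ := exists_r_part π hr z₀ (hz₀ ▸ hdvd)
    set y : K := z₀ ^ m' with hy
    have hya : a ∉ Subgroup.normalizer (K : Set X) := fun h => haAK ⟨haA, h⟩
    have hKa : IsComponent (cj a K) := component_cj hK a
    have hKaK : cj a K ≠ K := fun h => hya (mem_normalizer_iff_cj.2 h)
    have hKaC : cj a K ≤ Subgroup.centralizer (K : Set X) := component_le_centralizer hK hKa hKaK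
    have hay : a * (y : X) * a⁻¹ ∈ cj a K := conj_mem_cj.2 y.2
    set x : X := (y : X)⁻¹ * (a * y * a⁻¹) with hx
    have hxinv : a * x * a⁻¹ = x⁻¹ := inv_comm (sq_one hA haA) _
    have hcy : Commute ((y : X)⁻¹) (a * y * a⁻¹) :=
      (show Commute (y : X) (a * y * a⁻¹) from
        Subgroup.mem_centralizer_iff.1 (hKaC hay) _ y.2).inv_left
    have hxr : x ^ r ^ k = 1 := by
      rw [hx, hcy.mul_pow, inv_pow, conj_pow, ← SubgroupClass.coe_pow,
        show y ^ r ^ k = 1 from hord ▸ pow_orderOf_eq_one y]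
      simp
    have hxK : x ∉ Subgroup.centralizer (K : Set X) := fun h => hπ1 y hne (by
      have h1 := Subgroup.mul_mem _ h (Subgroup.inv_mem _ (hKaC hay))
      rw [hx, mul_assoc, mul_inv_cancel, mul_one] at h1
      simpa using Subgroup.inv_mem _ h1)
    have hxC : ∀ g ∈ C, g * x = x * g := by
      intro g hg
      have h1 : Commute g (y : X) := (Subgroup.mem_centralizer_iff.1 hg.2 _ y.2).symm
      have h2 : Commute g a := comm_el hA hg.1 haA
      exact (h1.inv_right.mul_right ((h2.mul_right h1).mul_right h2.inv_right)).eq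
    obtain ⟨T, hTB, hTD, hTsup⟩ := exists_compl (el_mono hA hBA) hAKB
    refine hasData_diag (C := C) (T := T) (K := K) (k := k) (d := 4 * (2 * m + 1)) hA hCA
      (hTB.trans hBA) haA hr hr2 hd hxr hxK hxinv hxC ?_ ?_
    · intro t ht ht1
      have htK : t ∉ Subgroup.normalizer (K : Set X) := fun h => ht1 (Subgroup.mem_bot.1
        (hTD ▸ ⟨ht, hBA (hTB ht), h⟩))
      have htaK : t * a ∉ Subgroup.normalizer (K : Set X) := fun h => by
        have h1 : t * a ∈ B := hAKB ⟨A.mul_mem (hBA (hTB ht)) haA, h⟩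
        exact haB (by simpa using B.mul_mem (B.inv_mem (hTB ht)) h1)
      have hzK : t * x * t⁻¹ ∈ Subgroup.centralizer (K : Set X) := by
        have e : t * x * t⁻¹ = (t * (y : X)⁻¹ * t⁻¹) * ((t * a) * y * (t * a)⁻¹) := by
          rw [hx]; group
        rw [e]
        exact Subgroup.mul_mem _
          (component_le_centralizer hK (component_cj hK _) (fun h => htK (mem_normalizer_iff_cj.2 h))
            (conj_mem_cj.2 (K.inv_mem y.2)))
          (component_le_centralizer hK (component_cj hK _) (fun h => htaK (mem_normalizer_iff_cj.2 h))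
            (conj_mem_cj.2 y.2))
      refine ⟨hzK, ?_⟩
      have hy1 : Commute (y : X) (t * x * t⁻¹) := Subgroup.mem_centralizer_iff.1 hzK _ y.2
      have hy2 : Commute (a * y * a⁻¹) (t * x * t⁻¹) := by
        have h1 := hy1.inv_right.map (MulAut.conj a)
        simp only [MulAut.conj_apply] at h1
        have e : a * (t * x * t⁻¹)⁻¹ * a⁻¹ = t * x * t⁻¹ := by
          rw [← conj_inv, inv_cent hA (hBA (hTB ht)) haA hxinv, inv_inv]
        rwa [e] at h1
      rw [hx] at hy1 hy2 ⊢
      exact hy1.inv_left.mul_left hy2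
    · rw [← hEq, sup_comm, hTsup, hB2]
      calc 2 ^ 4 ≤ 2 * 2 ^ 12 := by norm_num
        _ ≤ _ := Nat.mul_le_mul_left 2 (Nat.pow_le_pow_right two_pos (by omega))
  · -- some element normalising `K` acts nontrivially
    obtain ⟨a, haAK, haC⟩ := SetLike.not_le_iff_exists.1 hcase
    have haA : a ∈ A := haAK.1
    have hAKn : AK ≤ Subgroup.normalizer (K : Set X) := inf_le_right
    set θA : AK →* MulAut (Cfsg.Lie.Sz F (2 ^ (m + 1))) := θ.comp (Subgroup.inclusion hAKn) with hθA
    haveI hsimp : IsSimpleGroup (Cfsg.Lie.Sz F (2 ^ (m + 1))) := by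
      haveI := hK.2.2
      exact e.isSimpleGroup_congr.1 inferInstance
    have hcen : Subgroup.center (Cfsg.Lie.Sz F (2 ^ (m + 1))) = ⊥ := by
      refine (Subgroup.Normal.eq_bot_or_eq_top (inferInstance : (Subgroup.center _).Normal)).resolve_right
        fun h => quasisimple_not_isSolvable hK.2 ?_
      haveI : Group.IsSolvable (K ⧸ Subgroup.center K) :=
        Group.isSolvable_of_comm fun u v => e.injective (by
          rw [map_mul, map_mul]
          exact (Subgroup.mem_center_iff.1 (h ▸ Subgroup.mem_top (e u)) (e v)).symm)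
      haveI : Group.IsSolvable (Subgroup.center K) := Group.isSolvable_of_comm fun u v => Subtype.ext
        (Subgroup.mem_center_iff.1 v.2 u)
      exact (Group.isSolvable_iff_subgroup_quotient (Subgroup.center K)).2 ⟨inferInstance, inferInstance⟩
    have hconj : Function.Injective (MulAut.conj : Cfsg.Lie.Sz F (2 ^ (m + 1)) →* _) := by
      rw [← MonoidHom.ker_eq_bot_iff, eq_bot_iff]
      intro g hg
      rw [MonoidHom.mem_ker] at hg
      rw [← hcen, Subgroup.mem_center_iff]
      intro v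
      have := DFunLike.congr_fun hg v
      rw [MulAut.conj_apply, MulAut.one_apply, mul_inv_eq_iff_eq_mul] at this
      exact this.symm
    have hinner : ∀ g : AK, ∃ u, θA g = MulAut.conj u := fun g =>
      Suz.inner_of_sq hm hF _ (by
        rw [← map_mul, show g * g = 1 from Subtype.ext (sq_one hA g.2.1), map_one])
    -- the image is small
    have himage : C.relIndex AK ≤ 2 ^ (2 * m + 1) := by
      have hker : θA.ker ≤ C.subgroupOf AK := fun g hg => by
        exact ⟨g.2.1, hθker _ hg⟩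
      set E := θA.range.comap MulAut.conj with hE
      have hEsq : ∀ u ∈ E, u * u = 1 := by
        rintro u ⟨g, hg⟩
        apply hconj
        rw [map_mul, map_one, ← hg, ← map_mul, show g * g = 1 from Subtype.ext (sq_one hA g.2.1),
          map_one]
      calc C.relIndex AK ≤ θA.ker.index := Nat.le_of_dvd (Nat.pos_of_ne_zero
              Subgroup.index_ne_zero_of_finite) (Subgroup.index_dvd_of_le hker)
        _ = Nat.card θA.range := Subgroup.index_ker θA
        _ ≤ Nat.card E := by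
          refine Nat.card_le_card_of_surjective
            (fun u : E => (⟨MulAut.conj u.1, u.2⟩ : θA.range)) fun t => ?_
          obtain ⟨g, hg⟩ := t.2
          obtain ⟨u, hu⟩ := hinner g
          exact ⟨⟨u, ⟨g, hu⟩⟩, Subtype.ext (hu.symm.trans hg)⟩
        _ ≤ _ := Suz.card_elementary_le hm hF E hEsq
    obtain ⟨u, hu⟩ := hinner ⟨a, haAK⟩
    have hu1 : u ≠ 1 := by
      rintro rfl
      exact haC ⟨haA, hθker _ (by rw [hθA] at hu; simpa using hu)⟩
    have hu2 : u * u = 1 := hconj (by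
      rw [map_mul, map_one, ← hu, ← map_mul,
        show (⟨a, haAK⟩ : AK) * ⟨a, haAK⟩ = 1 from Subtype.ext (sq_one hA haA), map_one])
    obtain ⟨r, c, hr, hr2, hd, hdvd⟩ := Suz.exists_conj hm hF hu2 hu1
    obtain ⟨k₀, hk₀⟩ := hπ c
    have hakK : a * (k₀ : X) * a⁻¹ ∈ K := conj_mem (hAKn haAK) k₀.2
    set z₀ : K := ⟨a * k₀ * a⁻¹, hakK⟩ * k₀⁻¹ with hz₀
    have hπz : π z₀ = u * (c * u * c⁻¹) := by
      rw [hz₀, map_mul, map_inv, hk₀]
      have h := hθ ⟨a, hAKn haAK⟩ k₀ ⟨a * k₀ * a⁻¹, hakK⟩ rfl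
      have h' : π ⟨a * k₀ * a⁻¹, hakK⟩ = u * c * u⁻¹ := by
        show e (QuotientGroup.mk _) = _
        rw [← h, show θ ⟨a, hAKn haAK⟩ = MulAut.conj u from hu, MulAut.conj_apply]
        exact congrArg (fun t => u * t * u⁻¹) hk₀
      rw [h', inv_eq_of_mul_eq_one_left hu2]
      group
    obtain ⟨m', k, hord, hne⟩ := exists_r_part π hr z₀ (hπz ▸ hdvd)
    set x : K := z₀ ^ m' with hx
    have hzinv : a * (z₀ : X) * a⁻¹ = (z₀ : X)⁻¹ := by
      show a * (a * k₀ * a⁻¹ * (k₀ : X)⁻¹) * a⁻¹ = (a * k₀ * a⁻¹ * (k₀ : X)⁻¹)⁻¹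
      calc a * (a * k₀ * a⁻¹ * (k₀ : X)⁻¹) * a⁻¹
          = (a * a) * k₀ * (a * a)⁻¹ * (a * (k₀ : X)⁻¹ * a⁻¹) := by group
        _ = _ := by rw [sq_one hA haA]; group
    have hxinv : a * (x : X) * a⁻¹ = (x : X)⁻¹ := by
      rw [hx, SubgroupClass.coe_pow, ← conj_pow, hzinv, inv_pow]
    obtain ⟨T, hTA, hTD, hTsup⟩ := exists_compl hA (inf_le_left : AK ≤ A)
    refine hasData_diag (C := C) (T := T) (K := K) (k := k) (d := 4 * (2 * m + 1)) hA hCA hTA haA
      hr hr2 hd ?_ (hπ1 x hne) hxinv ?_ ?_ ?_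
    · rw [← SubgroupClass.coe_pow, ← hord, pow_orderOf_eq_one]
      rfl
    · exact fun g hg => (Subgroup.mem_centralizer_iff.1 hg.2 _ x.2).symm
    · intro t ht ht1
      have htK : t ∉ Subgroup.normalizer (K : Set X) := fun h => ht1 (Subgroup.mem_bot.1
        (hTD ▸ ⟨ht, hTA ht, h⟩))
      have hzK : t * (x : X) * t⁻¹ ∈ Subgroup.centralizer (K : Set X) :=
        component_le_centralizer hK (component_cj hK _) (fun h => htK (mem_normalizer_iff_cj.2 h))
          (conj_mem_cj.2 x.2)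
      exact ⟨hzK, Subgroup.mem_centralizer_iff.1 hzK _ x.2⟩
    · have hle : AK ≤ Subgroup.normalizer ((C ⊔ T : Subgroup X) : Set X) :=
        inf_le_left.trans (el_le_normalizer hA (sup_le hCA hTA))
      have h1 : (C ⊔ T).relIndex A ≤ C.relIndex AK := by
        conv_lhs => rw [← hTsup, sup_comm T AK, ← sup_eq_left.2 hCAK, sup_assoc]
        rw [relIndex_sup_eq hle]
        exact Subgroup.relIndex_le_of_le_left le_sup_left (relIndex_pos _ _).ne'
      calc (C ⊔ T).relIndex A ^ 4 ≤ (2 ^ (2 * m + 1)) ^ 4 :=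
            Nat.pow_le_pow_left (h1.trans himage) 4
        _ = 2 ^ (4 * (2 * m + 1)) := by rw [← pow_mul, mul_comm]
        _ ≤ _ := Nat.le_mul_of_pos_left _ two_pos

end CfsgLib.LocalEven.SzL2
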