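import Cfsg.Agent.Lib.LocalEven.S4Solvable.Helpers
import Cfsg.Agent.Lib.Components.FStar
import Cfsg.Agent.Lib.KnownB.PSLAut.Basic
import Cfsg.Agent.Lib.LocalEven.WCCore
import Cfsg.Agent.Lib.LocalEven.SzL2Offender.Module
import Cfsg.Agent.S3755

/-!
Abelian groups of odd order inverted by an element of an elementary abelian `2`-subgroup, and
preliminaries on components.
-/

set_option autoImplicit false
set_option linter.style.haveILetI false

namespace CfsgLib.LocalEven.SzL2

open Cfsg CfsgLib.LocalEven.S4W CfsgLib.Techniques CfsgLib.Components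

variable {X : Type*} [Group X] [Finite X]

/-- An element `y` of prime order `r` centralising `C` and inverted by an element of `A`, with
`r` having enough `2`-modular dimension to bound `|A : C|²`. -/
def HasData (A : Subgroup X) : Prop :=
  ∃ (C : Subgroup X) (y a : X) (r d : ℕ), C ≤ A ∧ C ≠ A ∧ a ∈ A ∧ r.Prime ∧ r ≠ 2 ∧
    (∀ j : ℕ, 0 < j → r ∣ 2 ^ j - 1 → d ≤ j) ∧ orderOf y = r ∧
    y ∈ Subgroup.centralizer (C : Set X) ∧ a * y * a⁻¹ = y⁻¹ ∧
    C.relIndex A ^ 4 ≤ 2 * 2 ^ d

omit [Finite X] in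
theorem inv_comm {g : X} (hg : g * g = 1) (y : X) :
    g * (y⁻¹ * (g * y * g⁻¹)) * g⁻¹ = (y⁻¹ * (g * y * g⁻¹))⁻¹ := by
  calc g * (y⁻¹ * (g * y * g⁻¹)) * g⁻¹
      = g * y⁻¹ * g⁻¹ * ((g * g) * y * (g * g)⁻¹) := by group
    _ = g * y⁻¹ * g⁻¹ * y := by rw [hg]; simp
    _ = _ := by group

theorem no_three (hfree : ¬ Involves (Equiv.Perm (Fin 3)) X) {g w : X} (hg : g * g = 1)
    (hw : g * w * g⁻¹ = w⁻¹) (h3 : 3 ∣ orderOf w) : False := by
  obtain ⟨t, ht⟩ := h3
  set x := w ^ t with hx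
  have htpos : 0 < t := by
    have := orderOf_pos w
    omega
  have hxo : orderOf x = 3 := by
    rw [hx, orderOf_pow_of_dvd htpos.ne' (Dvd.intro_left 3 ht.symm), ht,
      Nat.mul_div_cancel _ htpos]
  have hinv : g * x * g⁻¹ = x⁻¹ := by rw [hx, ← conj_pow, hw, inv_pow]
  have hg1 : g ≠ 1 := by
    rintro rfl
    have h2 : x ^ 2 = 1 := by
      have h' : x = x⁻¹ := by simpa using hinv
      rw [pow_two]; nth_rw 2 [h']; exact mul_inv_cancel x
    have := Nat.le_of_dvd two_pos (orderOf_dvd_of_pow_eq_one h2)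
    omega
  refine hfree ?_
  obtain ⟨K, R, hR, ⟨e⟩⟩ := Cfsg.Agent.S3755.involves_s3 (M := (⊤ : Subgroup X)) (a := g) (d := x)
    trivial trivial hg hg1 (hxo ▸ pow_orderOf_eq_one x)
    (fun h => by rw [h, orderOf_one] at hxo; omega) hinv
  exact CfsgLib.LocalEven.involves_of_subgroup ⟨K, R, hR, ⟨e⟩⟩

/-- An odd element commuting with a subgroup of index two and inverted by the other elements. -/
theorem hasData_of_pair (hfree : ¬ Involves (Equiv.Perm (Fin 3)) X) {A C : Subgroup X} {a x : X}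
    (hA : IsElementaryAbelian 2 A) (hCA : C ≤ A) (hne : C ≠ A) (ha : a ∈ A)
    (hidx : C.relIndex A ≤ 2) (hx : Odd (orderOf x)) (hx1 : x ≠ 1)
    (hxC : x ∈ Subgroup.centralizer (C : Set X)) (hinv : a * x * a⁻¹ = x⁻¹) : HasData A := by
  obtain ⟨r, hr, hrd⟩ := Nat.exists_prime_and_dvd (n := orderOf x)
    (fun h => hx1 (orderOf_eq_one_iff.1 h))
  haveI := Fact.mk hr
  have hr2 : r ≠ 2 := by
    rintro rfl
    exact (Nat.not_even_iff_odd.2 hx) (even_iff_two_dvd.2 hrd)
  have hr3 : r ≠ 3 := by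
    rintro rfl
    exact no_three hfree (sq_one hA ha) hinv hrd
  set y := x ^ (orderOf x / r) with hy
  have hyo : orderOf y = r := orderOf_pow_orderOf_div (orderOf_pos x).ne' hrd
  have hyinv : a * y * a⁻¹ = y⁻¹ := by rw [hy, ← conj_pow, hinv, inv_pow]
  refine ⟨C, y, a, r, 3, hCA, hne, ha, hr, hr2, fun j hj h => ?_, hyo, Subgroup.pow_mem _ hxC _,
    hyinv, ?_⟩
  · by_contra hlt
    rcases (show j = 1 ∨ j = 2 by omega) with rfl | rfl
    · exact hr.one_lt.ne' (Nat.eq_one_of_dvd_one (by simpa using h))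
    · exact hr3 ((Nat.prime_dvd_prime_iff_eq hr Nat.prime_three).1 (by simpa using h))
  · calc C.relIndex A ^ 4 ≤ 2 ^ 4 := Nat.pow_le_pow_left hidx 4
      _ = _ := by norm_num

/-- Complements in elementary abelian groups. -/
theorem exists_compl {A D : Subgroup X} (hA : IsElementaryAbelian 2 A) (hDA : D ≤ A) :
    ∃ T : Subgroup X, T ≤ A ∧ T ⊓ D = ⊥ ∧ T ⊔ D = A := by
  classical
  obtain ⟨T, ⟨hTA, hTD⟩, hmax⟩ := Set.exists_max_image {T : Subgroup X | T ≤ A ∧ T ⊓ D = ⊥}
    (fun T => Nat.card T) (Set.toFinite _) ⟨⊥, bot_le, bot_inf_eq _⟩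
  refine ⟨T, hTA, hTD, le_antisymm (sup_le hTA hDA) fun w hw => ?_⟩
  by_contra hcon
  have hn : Subgroup.zpowers w ≤ Subgroup.normalizer (T : Set X) :=
    (Subgroup.zpowers_le.2 hw).trans ((Subgroup.le_centralizer_iff_isMulCommutative.2 hA.1).trans
      ((Subgroup.centralizer_le hTA).trans (Subgroup.centralizer_le_normalizer _)))
  have hlt : T < Subgroup.zpowers w ⊔ T := lt_of_le_of_ne le_sup_right fun h =>
    hcon (Subgroup.mem_sup_left (h ▸ Subgroup.mem_sup_left (Subgroup.mem_zpowers w)))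
  refine hlt.ne (Subgroup.eq_of_le_of_card_ge hlt.le (hmax _
    ⟨sup_le (Subgroup.zpowers_le.2 hw) hTA, ?_⟩))
  rw [eq_bot_iff]
  rintro g ⟨hg, hgD⟩
  obtain ⟨_, ⟨i, rfl⟩, t, ht, rfl⟩ := exists_mul_of_mem_sup hn hg
  rcases Int.even_or_odd i with ⟨j, rfl⟩ | ⟨j, rfl⟩
  · have hw1 : w ^ (j + j) = 1 := by rw [← two_mul, zpow_mul, zpow_two, sq_one hA hw, one_zpow]
    simp only [hw1, one_mul] at hgD ⊢
    rw [← hTD]
    exact ⟨ht, hgD⟩
  · have hw1 : w ^ (2 * j + 1) = w := by
      rw [zpow_add, zpow_mul, zpow_two, sq_one hA hw, one_zpow, one_mul, zpow_one]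
    simp only [hw1] at hgD
    exact absurd (by
      simpa using (T ⊔ D).mul_mem (Subgroup.mem_sup_right hgD)
        ((T ⊔ D).inv_mem (Subgroup.mem_sup_left ht)))
      hcon

/-- The product of the conjugates under `T` of an element `x` moving `K` is centralised by `T`. -/
theorem hasData_diag {A C T K : Subgroup X} {a x : X} {r k d : ℕ} (hA : IsElementaryAbelian 2 A)
    (hCA : C ≤ A) (hTA : T ≤ A) (haA : a ∈ A) (hr : r.Prime) (hr2 : r ≠ 2)
    (hd : ∀ j : ℕ, 0 < j → r ∣ 2 ^ j - 1 → d ≤ j) (hx : x ^ r ^ k = 1)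
    (hxK : x ∉ Subgroup.centralizer (K : Set X)) (hinv : a * x * a⁻¹ = x⁻¹)
    (hxC : ∀ g ∈ C, g * x = x * g)
    (hsep : ∀ t ∈ T, t ≠ 1 → t * x * t⁻¹ ∈ Subgroup.centralizer (K : Set X) ∧
      Commute x (t * x * t⁻¹))
    (hidx : (C ⊔ T).relIndex A ^ 4 ≤ 2 * 2 ^ d) : HasData A := by
  classical
  haveI := Fact.mk hr
  haveI : Fintype T := Fintype.ofFinite _
  let z : T → X := fun t => t * x * (t : X)⁻¹
  set P := Subgroup.closure (Set.range z) with hPdef
  have hcomm : ∀ s t : T, z s * z t = z t * z s := by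
    intro s t
    by_cases h : (s : X)⁻¹ * t = 1
    · rw [inv_mul_eq_one] at h
      rw [Subtype.ext h]
    · have h1 := (hsep _ (T.mul_mem (T.inv_mem s.2) t.2) h).2.map (MulAut.conj (s : X))
      simp only [MulAut.conj_apply] at h1
      have e : (s : X) * ((s : X)⁻¹ * t * x * ((s : X)⁻¹ * t)⁻¹) * (s : X)⁻¹ = z t := by
        simp only [z]; group
      rw [e] at h1
      exact h1.eq
  haveI hPc : IsMulCommutative P := Subgroup.isMulCommutative_closure (by
    rintro _ ⟨i, rfl⟩ _ ⟨j, rfl⟩; exact hcomm i j)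
  letI : CommGroup P := { (inferInstance : Group P) with mul_comm := fun u v => mul_comm' u v }
  let w : T → P := fun t => ⟨z t, Subgroup.subset_closure ⟨t, rfl⟩⟩
  set p : P := ∏ t, w t with hp
  have hzinv : ∀ t : T, a * z t * a⁻¹ = (z t)⁻¹ := by
    intro t
    have e := comm_el hA haA (hTA t.2)
    show a * (t * x * (t : X)⁻¹) * a⁻¹ = (t * x * (t : X)⁻¹)⁻¹
    calc a * (t * x * (t : X)⁻¹) * a⁻¹ = a * t * x * (a * t)⁻¹ := by group
      _ = t * (a * x * a⁻¹) * (t : X)⁻¹ := by rw [e]; group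
      _ = _ := by rw [hinv]; group
  have hPn : ∀ g : X, (∀ t, g * z t * g⁻¹ ∈ P) → g ∈ Subgroup.normalizer (P : Set X) := by
    intro g hg
    refine CfsgLib.LocalEven.mem_normalizer_of_conj_mem fun u hu => ?_
    refine (show P ≤ P.comap (MulAut.conj g).toMonoidHom from ?_) hu
    rw [hPdef, Subgroup.closure_le]
    rintro _ ⟨t, rfl⟩
    exact hg t
  have haP : a ∈ Subgroup.normalizer (P : Set X) :=
    hPn a fun t => hzinv t ▸ P.inv_mem (Subgroup.subset_closure ⟨t, rfl⟩)
  have hconjz : ∀ s t : T, (s : X) * z t * (s : X)⁻¹ = z (s * t) := fun s t => by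
    simp only [z, Subgroup.coe_mul]; group
  have hTP : ∀ s : T, (s : X) ∈ Subgroup.normalizer (P : Set X) := fun s =>
    hPn _ fun t => hconjz s t ▸ Subgroup.subset_closure ⟨_, rfl⟩
  have hpa : a * (p : X) * a⁻¹ = (p : X)⁻¹ := by
    have h1 : P.normalizerMonoidHom ⟨a, haP⟩ p = p⁻¹ := by
      rw [hp, map_prod, ← Finset.prod_inv_distrib]
      exact Finset.prod_congr rfl fun t _ => Subtype.ext (hzinv t)
    exact congrArg Subtype.val h1
  have hpT : ∀ s ∈ T, s * (p : X) * s⁻¹ = p := by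
    intro s hs
    have h1 : P.normalizerMonoidHom ⟨s, hTP ⟨s, hs⟩⟩ p = p := by
      rw [hp, map_prod]
      exact Fintype.prod_equiv (Equiv.mulLeft (⟨s, hs⟩ : T)) _ _
        fun t => Subtype.ext (hconjz ⟨s, hs⟩ t)
    exact congrArg Subtype.val h1
  have hpC : C ≤ Subgroup.centralizer ({(p : X)} : Set X) := by
    intro g hg
    refine Subgroup.mem_centralizer_singleton_iff.2 ?_
    have h1 : P ≤ Subgroup.centralizer ({g} : Set X) := by
      rw [hPdef, Subgroup.closure_le]
      rintro _ ⟨t, rfl⟩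
      refine Subgroup.mem_centralizer_singleton_iff.2 ?_
      have h2 : Commute g (t : X) := comm_el hA (hCA hg) (hTA t.2)
      exact ((h2.mul_right (show Commute g x from hxC g hg)).mul_right h2.inv_right).symm.eq
    exact (Subgroup.mem_centralizer_singleton_iff.1 (h1 p.2)).symm
  have hpK : (p : X) ∉ Subgroup.centralizer (K : Set X) := by
    intro h
    rw [hp, ← Finset.mul_prod_erase _ _ (Finset.mem_univ (1 : T))] at h
    have hrest : ((∏ t ∈ Finset.univ.erase (1 : T), w t : P) : X) ∈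
        Subgroup.centralizer (K : Set X) :=
      Subgroup.mem_subgroupOf.1
        (Subgroup.prod_mem ((Subgroup.centralizer (K : Set X)).subgroupOf P) fun t ht =>
          Subgroup.mem_subgroupOf.2
            (hsep t t.2 fun e => (Finset.mem_erase.1 ht).1 (Subtype.ext e)).1)
    rw [Subgroup.coe_mul] at h
    exact hxK (by simpa [w, z] using (Subgroup.mul_mem_cancel_right _ hrest).1 h)
  have hppow : (p : X) ^ r ^ k = 1 := by
    rw [← SubgroupClass.coe_pow, hp, ← Finset.prod_pow, Finset.prod_eq_one (fun t _ => ?_)]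
    · rfl
    · refine Subtype.ext ?_
      show (t * x * (t : X)⁻¹) ^ r ^ k = 1
      rw [conj_pow, hx, mul_one, mul_inv_cancel]
  obtain ⟨l, -, hl⟩ := (Nat.dvd_prime_pow hr).1 (orderOf_dvd_of_pow_eq_one hppow)
  have hl0 : l ≠ 0 := fun h => hpK (by
    rw [h, pow_zero, orderOf_eq_one_iff] at hl
    rw [hl]
    exact Subgroup.one_mem _)
  set y := (p : X) ^ (orderOf (p : X) / r) with hy
  have hyo : orderOf y = r :=
    orderOf_pow_orderOf_div (orderOf_pos (p : X)).ne' (hl ▸ dvd_pow_self r hl0)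
  have hyinv : a * y * a⁻¹ = y⁻¹ := by rw [hy, ← conj_pow, hpa, inv_pow]
  have hyC : y ∈ Subgroup.centralizer ((C ⊔ T : Subgroup X) : Set X) := by
    refine Subgroup.pow_mem _ (Subgroup.mem_centralizer_iff.2 fun g hg => ?_) _
    have h1 : C ⊔ T ≤ Subgroup.centralizer ({(p : X)} : Set X) := sup_le hpC fun s hs =>
      Subgroup.mem_centralizer_singleton_iff.2 (mul_inv_eq_iff_eq_mul.1 (hpT s hs))
    exact Subgroup.mem_centralizer_singleton_iff.1 (h1 hg)
  refine ⟨C ⊔ T, y, a, r, d, sup_le hCA hTA, fun h => ?_, haA, hr, hr2, hd, hyo, hyC, hyinv, hidx⟩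
  have h1 : y⁻¹ = y := by
    rw [← hyinv, Subgroup.mem_centralizer_iff.1 hyC a (h ▸ haA), mul_inv_cancel_right]
  have h2 : y ^ 2 = 1 := by rw [pow_two]; nth_rw 1 [← h1]; exact inv_mul_cancel y
  have h3 := orderOf_dvd_of_pow_eq_one h2
  rw [hyo] at h3
  exact hr2 ((Nat.prime_dvd_prime_iff_eq hr Nat.prime_two).1 h3)

/-- Components are normalised by their normalisers' elements and commute with their conjugates. -/
theorem component_cj {K : Subgroup X} (hK : IsComponent K) (g : X) : IsComponent (cj g K) :=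
  isComponent_conj hK g

theorem component_le_centralizer {K L : Subgroup X} (hK : IsComponent K) (hL : IsComponent L)
    (h : L ≠ K) : L ≤ Subgroup.centralizer (K : Set X) :=
  Subgroup.commutator_eq_bot_iff_le_centralizer.1 (components_commute hL hK h)

/-- The automorphism of `K / Z(K) ≃ Q` induced by a normalising element. -/
theorem exists_autHom {K : Subgroup X} {Q : Type*} [Group Q]
    (hperf : Group.IsPerfect K) (e : K ⧸ Subgroup.center K ≃* Q) :
    ∃ θ : ↥(Subgroup.normalizer (K : Set X)) →* MulAut Q,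
      (∀ (g : ↥(Subgroup.normalizer (K : Set X))) (k k' : K), (k' : X) = (g : X) * k * (g : X)⁻¹ →
        θ g (e (QuotientGroup.mk k)) = e (QuotientGroup.mk k')) ∧
      ∀ g : ↥(Subgroup.normalizer (K : Set X)), θ g = 1 →
        (g : X) ∈ Subgroup.centralizer (K : Set X) := by
  refine ⟨(MulAut.congr e).toMonoidHom.comp
    (CfsgLib.KnownB.PSLAut.descend.comp K.normalizerMonoidHom), ?_, ?_⟩
  · intro g k k' h
    change e (CfsgLib.KnownB.PSLAut.descend (K.normalizerMonoidHom g)
      (e.symm (e (QuotientGroup.mk k)))) = _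
    rw [e.symm_apply_apply, CfsgLib.KnownB.PSLAut.descend_mk]
    exact congrArg _ (congrArg _ (Subtype.ext h.symm))
  · intro g hg
    have hcentral : ∀ k : K, K.normalizerMonoidHom g k * k⁻¹ ∈ Subgroup.center K := by
      intro k
      have h1 := DFunLike.congr_fun hg (e (QuotientGroup.mk k))
      change e (CfsgLib.KnownB.PSLAut.descend (K.normalizerMonoidHom g)
        (e.symm (e (QuotientGroup.mk k)))) = e (QuotientGroup.mk k) at h1
      rw [e.symm_apply_apply, CfsgLib.KnownB.PSLAut.descend_mk, e.apply_eq_iff_eq] at h1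
      have h2 : ((K.normalizerMonoidHom g k * k⁻¹ : K) : K ⧸ Subgroup.center K) = 1 := by
        rw [QuotientGroup.mk_mul, h1, QuotientGroup.mk_inv, mul_inv_cancel]
      exact (QuotientGroup.eq_one_iff _).1 h2
    let δ : K →* Subgroup.center K :=
      MonoidHom.mk' (fun k => ⟨K.normalizerMonoidHom g k * k⁻¹, hcentral k⟩) fun k l => by
        apply Subtype.ext
        simp only [Subgroup.coe_mul, map_mul, mul_inv_rev]
        have hc := Subgroup.mem_center_iff.1 (hcentral l) k⁻¹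
        calc K.normalizerMonoidHom g k * K.normalizerMonoidHom g l * (l⁻¹ * k⁻¹)
            = K.normalizerMonoidHom g k * ((K.normalizerMonoidHom g l * l⁻¹) * k⁻¹) := by group
          _ = K.normalizerMonoidHom g k * (k⁻¹ * (K.normalizerMonoidHom g l * l⁻¹)) := by rw [hc]
          _ = _ := by group
    rw [Subgroup.mem_centralizer_iff]
    intro k hk
    haveI : IsMulCommutative (Subgroup.center K) := inferInstance
    letI : CommGroup (Subgroup.center K) :=
      { (inferInstance : Group (Subgroup.center K)) with mul_comm := fun u v => mul_comm' u v }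
    have h3 : (⟨k, hk⟩ : K) ∈ δ.ker := by
      refine Abelianization.commutator_subset_ker δ ?_
      rw [hperf.commutator_eq_top]
      exact Subgroup.mem_top _
    rw [MonoidHom.mem_ker] at h3
    have h4 : K.normalizerMonoidHom g ⟨k, hk⟩ * (⟨k, hk⟩ : K)⁻¹ = 1 := congrArg Subtype.val h3
    rw [mul_inv_eq_one] at h4
    have h5 : (g : X) * k * (g : X)⁻¹ = k := congrArg Subtype.val h4
    exact (mul_inv_eq_iff_eq_mul.1 h5).symm

end CfsgLib.LocalEven.SzL2
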