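import Cfsg.Agent.Lib.LocalEven.SzL2Offender.Cases

/-!
Components of type `L₂(3^odd)`, the Fitting subgroup, and the existence of data.
-/

set_option autoImplicit false
set_option linter.style.haveILetI false

universe u

namespace CfsgLib.LocalEven.SzL2

open Cfsg CfsgLib.LocalEven.S4W CfsgLib.Techniques CfsgLib.Components CfsgLib.Coprime
open scoped commutatorElement

variable {X : Type u} [Group X] [Finite X]

theorem odd_of_card_odd {H : Subgroup X} (h : Odd (Nat.card H)) {x : X} (hx : x ∈ H) :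
    Odd (orderOf x) := by
  rw [← Subgroup.orderOf_mk x hx]
  exact h.of_dvd_nat (orderOf_dvd_natCard _)

/-- Without `O₂`, subnormal commutative or nilpotent subgroups are odd. -/
theorem odd_card_of_subnormal (hO : pCore 2 X = ⊥) {N : Subgroup X} (hN : N.IsSubnormal)
    (hnil : Group.IsNilpotent N) : Odd (Nat.card N) := by
  haveI : Fact (Nat.Prime 2) := ⟨Nat.prime_two⟩
  by_contra heven
  rw [Nat.not_odd_iff_even, even_iff_two_dvd] at heven
  haveI := hnil
  set P : Sylow 2 N := default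
  haveI : (P : Subgroup N).Normal := inferInstance
  have hsub : ((P : Subgroup N).map N.subtype).IsSubnormal :=
    (‹(P : Subgroup N).Normal›.isSubnormal).trans' hN
  have hle := CfsgLib.Base.le_pCore_of_isSubnormal (p := 2) hsub (P.isPGroup'.map _)
  rw [hO, le_bot_iff, Subgroup.map_eq_bot_iff_of_injective _ N.subtype_injective] at hle
  exact absurd heven (by
    intro h
    exact P.ne_bot_of_dvd_card h hle)

/-- A component of type `L₂(3^odd)` gives data. -/
theorem l2_data (hO : pCore 2 X = ⊥) (hfree : ¬ Involves (Equiv.Perm (Fin 3)) X) {A K : Subgroup X}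
    (hA : IsElementaryAbelian 2 A) (hK : IsComponent K)
    (hnc : ¬ A ≤ Subgroup.centralizer (K : Set X)) {F : Type} [Field F] [Fintype F] {n : ℕ}
    (hn : 1 ≤ n) (hF : Fintype.card F = 3 ^ (2 * n + 1))
    (e : K ⧸ Subgroup.center K ≃* Matrix.ProjectiveSpecialLinearGroup (Fin 2) F) : HasData A := by
  classical
  set Q := Matrix.ProjectiveSpecialLinearGroup (Fin 2) F
  haveI : Fact (Nat.Prime 2) := ⟨Nat.prime_two⟩
  haveI : Fact (Nat.Prime 3) := ⟨Nat.prime_three⟩
  set π : K →* Q := e.toMonoidHom.comp (QuotientGroup.mk' _) with hπdef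
  have hπ : Function.Surjective π := e.surjective.comp (QuotientGroup.mk'_surjective _)
  have hπc : ∀ x : K, (x : X) ∈ Subgroup.centralizer (K : Set X) → π x = 1 := fun x hx => by
    show e (QuotientGroup.mk x) = 1
    rw [(QuotientGroup.eq_one_iff x).2 (mem_center_of_mem hx), map_one]
  obtain ⟨θ, hθ, hθker⟩ := exists_autHom hK.2.1 e
  have h3card : 3 ∣ Nat.card Q := by
    have e' := CfsgLib.Classical.card_PSL_two_mul (F := F)
    have hd : 3 ∣ Nat.card F * (Nat.card F ^ 2 - 1) := by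
      rw [Nat.card_eq_fintype_card, hF]
      exact Dvd.dvd.mul_right (dvd_pow_self 3 (by omega)) _
    rw [← e'] at hd
    exact (Nat.Coprime.dvd_of_dvd_mul_left (by
      rcases Nat.dvd_prime Nat.prime_two |>.1 (Nat.gcd_dvd_left 2 (Nat.card F - 1)) with h | h <;>
        rw [h] <;> norm_num) hd)
  -- `A` normalises `K`
  have hAn : A ≤ Subgroup.normalizer (K : Set X) := by
    intro g hg
    by_contra hgn
    obtain ⟨z, hz⟩ := exists_prime_orderOf_dvd_card' (G := Q) 3 h3card
    obtain ⟨y, rfl⟩ := hπ z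
    have hgC : cj g K ≤ Subgroup.centralizer (K : Set X) :=
      component_le_centralizer hK (component_cj hK g) fun h => hgn (mem_normalizer_iff_cj.2 h)
    set x : X := (y : X)⁻¹ * (g * y * g⁻¹) with hx
    refine no_three hfree (sq_one hA hg) (inv_comm (sq_one hA hg) (y : X) : g * x * g⁻¹ = x⁻¹) ?_
    rw [← hz]
    refine orderOf_dvd_of_pow_eq_one ?_
    rw [← map_pow]
    apply hπc
    have hcy : Commute ((y : X)⁻¹) (g * y * g⁻¹) :=
      (show Commute (y : X) (g * y * g⁻¹) from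
        Subgroup.mem_centralizer_iff.1 (hgC (conj_mem_cj.2 y.2)) _ y.2).inv_left
    have h1 : x ^ orderOf x = 1 := pow_orderOf_eq_one x
    rw [hx] at h1
    rw [hcy.mul_pow, inv_pow, conj_pow, inv_mul_eq_one] at h1
    rw [← hx] at h1
    rw [SubgroupClass.coe_pow, h1, ← conj_pow]
    exact Subgroup.pow_mem _ (hgC (conj_mem_cj.2 y.2)) _
  set θA : A →* MulAut Q := θ.comp (Subgroup.inclusion hAn) with hθA
  have hsq : ∀ g : A, θA g * θA g = 1 := fun g => by
    rw [← map_mul, show g * g = 1 from Subtype.ext (sq_one hA g.2), map_one]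
  have hinner : ∀ g : A, ∃ u, θA g = MulAut.conj u := by
    intro g
    rcases Three.inner_or_inverts_three hF _ (hsq g) with h | ⟨z, hz, hzinv⟩
    · exact h
    exfalso
    obtain ⟨y, rfl⟩ := hπ z
    have hyK : (g : X) * y * (g : X)⁻¹ ∈ K := conj_mem (hAn g.2) y.2
    set w : K := y⁻¹ * ⟨(g : X) * y * (g : X)⁻¹, hyK⟩ with hw
    refine no_three hfree (sq_one hA g.2) (inv_comm (sq_one hA g.2) (y : X)) ?_
    rw [show (y : X)⁻¹ * ((g : X) * y * (g : X)⁻¹) = (w : X) from rfl, Subgroup.orderOf_coe]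
    refine dvd_trans ?_ (orderOf_map_dvd π w)
    have e1 : π w = (π y)⁻¹ * (π y)⁻¹ := by
      rw [hw, map_mul, map_inv]
      congr 1
      exact (hθ ⟨g, hAn g.2⟩ y ⟨(g : X) * y * (g : X)⁻¹, hyK⟩ rfl).symm.trans hzinv
    have h3 : π y * π y * π y = 1 := by
      have := pow_orderOf_eq_one (π y)
      rwa [hz, pow_succ, pow_two] at this
    rw [e1, ← mul_inv_rev, inv_eq_of_mul_eq_one_right h3, hz]
  haveI hsimp : IsSimpleGroup Q := by
    haveI := hK.2.2
    exact e.isSimpleGroup_congr.1 inferInstance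
  have hconj : Function.Injective (MulAut.conj : Q →* _) := by
    rw [← MonoidHom.ker_eq_bot_iff]
    refine (Subgroup.Normal.eq_bot_or_eq_top inferInstance).resolve_right fun h => ?_
    refine quasisimple_not_isSolvable hK.2 ?_
    haveI : Group.IsSolvable (K ⧸ Subgroup.center K) :=
      Group.isSolvable_of_comm fun u v => e.injective (by
        have h1 : MulAut.conj (e u) = 1 := MonoidHom.mem_ker.1 (h ▸ Subgroup.mem_top (e u))
        have h2 := DFunLike.congr_fun h1 (e v)
        rw [MulAut.conj_apply, MulAut.one_apply, mul_inv_eq_iff_eq_mul] at h2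
        rw [map_mul, map_mul]; exact h2)
    haveI : Group.IsSolvable (Subgroup.center K) := Group.isSolvable_of_comm fun u v =>
      Subtype.ext (Subgroup.mem_center_iff.1 v.2 u)
    exact (Group.isSolvable_iff_subgroup_quotient (Subgroup.center K)).2 ⟨inferInstance, inferInstance⟩
  set C := A ⊓ Subgroup.centralizer (K : Set X) with hCdef
  have hCA : C ≤ A := inf_le_left
  have hCne : C ≠ A := fun h => hnc (h ▸ inf_le_right)
  -- the image has order at most four
  have h4 : C.relIndex A ≤ 4 := by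
    have hker : θA.ker ≤ C.subgroupOf A := fun g hg => ⟨g.2, hθker _ hg⟩
    set E := θA.range.comap MulAut.conj with hE
    have hEp : IsPGroup 2 E := fun u => ⟨1, Subtype.ext (by
      obtain ⟨g, hg⟩ := u.2
      apply hconj
      rw [pow_one, SubgroupClass.coe_pow, pow_two, map_mul, OneMemClass.coe_one, map_one, ← hg,
        hsq g])⟩
    obtain ⟨k, hk⟩ := IsPGroup.iff_card.1 hEp
    have hk2 := Three.card_two_le hF (hk ▸ Subgroup.card_subgroup_dvd_card E)
    calc C.relIndex A ≤ θA.ker.index := Nat.le_of_dvd (Nat.pos_of_ne_zero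
            Subgroup.index_ne_zero_of_finite) (Subgroup.index_dvd_of_le hker)
      _ = Nat.card θA.range := Subgroup.index_ker θA
      _ ≤ Nat.card E := by
        refine Nat.card_le_card_of_surjective
          (fun u : E => (⟨MulAut.conj u.1, u.2⟩ : θA.range)) fun t => ?_
        obtain ⟨g, hg⟩ := t.2
        obtain ⟨u, hu⟩ := hinner g
        exact ⟨⟨u, ⟨g, hu⟩⟩, Subtype.ext (hu.symm.trans hg)⟩
      _ ≤ 4 := by rw [hk]; exact Nat.pow_le_pow_right two_pos hk2
  obtain ⟨a₁, ha₁, ha₁C⟩ : ∃ a ∈ A, a ∉ C := by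
    by_contra h
    push Not at h
    exact hCne (le_antisymm hCA h)
  set A₁ := C ⊔ Subgroup.zpowers a₁ with hA₁
  have hA₁A : A₁ ≤ A := sup_le hCA (Subgroup.zpowers_le.2 ha₁)
  have hA₁2 : 2 ≤ C.relIndex A₁ := by
    have h1 : C.relIndex A₁ ≠ 1 := fun h => ha₁C (Subgroup.relIndex_eq_one.1 h
      (Subgroup.mem_sup_right (Subgroup.mem_zpowers a₁)))
    have h0 := relIndex_pos C A₁
    omega
  by_cases htop : A₁ = A
  · -- `A` induces a group of order two on `K`
    have hidx : C.relIndex A ≤ 2 := by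
      rw [← htop, hA₁, sup_comm, relIndex_sup_eq
        ((Subgroup.zpowers_le.2 ha₁).trans (el_le_normalizer hA hCA))]
      refine (Nat.le_of_dvd Nat.card_pos (Subgroup.relIndex_dvd_card _ _)).trans ?_
      rw [Nat.card_zpowers]
      exact Nat.le_of_dvd two_pos (orderOf_dvd_of_pow_eq_one (by rw [sq, sq_one hA ha₁]))
    set H := K ⊔ Subgroup.zpowers a₁ with hH
    have ha₁H : a₁ ∈ H := Subgroup.mem_sup_right (Subgroup.mem_zpowers _)
    obtain ⟨⟨x, hxH⟩, r, hr, hr2, hxr, hxinv⟩ := CfsgLib.FgsB.exists_odd_prime_inverted_by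
      (G := H) (t := ⟨a₁, ha₁H⟩) (Subtype.ext (by
        rw [SubgroupClass.coe_pow, sq, OneMemClass.coe_one]; exact sq_one hA ha₁)) (by
      intro N hN hNp haN
      refine ha₁C ⟨ha₁, hθker ⟨a₁, hAn ha₁⟩ ?_⟩
      refine MulEquiv.ext fun q => ?_
      obtain ⟨k, rfl⟩ := hπ q
      have hk' : a₁ * (k : X) * a₁⁻¹ ∈ K := conj_mem (hAn ha₁) k.2
      change θ ⟨a₁, hAn ha₁⟩ (e (QuotientGroup.mk k)) = e (QuotientGroup.mk k)
      rw [hθ ⟨a₁, hAn ha₁⟩ k ⟨_, hk'⟩ rfl]
      -- the commutator lies in a normal `2`-subgroup of `K`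
      set NK : Subgroup K := (N.map H.subtype).comap K.subtype with hNK
      have hKH : ∀ k : K, (k : X) ∈ H := fun k => Subgroup.mem_sup_left k.2
      haveI hNKn : NK.Normal := ⟨fun v hv g => by
        obtain ⟨v', hv', he⟩ := hv
        refine ⟨⟨g, hKH g⟩ * v' * (⟨g, hKH g⟩)⁻¹, hN.conj_mem _ hv' _, ?_⟩
        simp only [map_mul, map_inv, Subgroup.coe_subtype] at he ⊢
        rw [he]⟩
      have hNKp : IsPGroup 2 NK := fun ⟨v, hv⟩ => by
        obtain ⟨v', hv', he⟩ := hv
        obtain ⟨j, hj⟩ := hNp ⟨v', hv'⟩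
        refine ⟨j, Subtype.ext (Subtype.ext ?_)⟩
        have hj' : ((v' : X)) ^ 2 ^ j = 1 := congrArg (fun t : N => ((t : H) : X)) hj
        simpa [← show (v' : X) = (v : X) from he] using hj'
      have hle : NK ≤ Subgroup.center K := by
        rcases quasisimple_normal_eq_top_or_le_center hK.2 NK with h | h
        · exfalso
          refine quasisimple_not_isNilpotent hK.2 ?_
          have htop : IsPGroup 2 (⊤ : Subgroup K) := h ▸ hNKp
          exact (htop.of_equiv Subgroup.topEquiv).isNilpotent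
        · exact h
      refine congrArg e (QuotientGroup.eq.2 (hle ?_))
      show (((⟨a₁ * k * a₁⁻¹, hk'⟩ : K)⁻¹ * k : K) : X) ∈ N.map H.subtype
      refine ⟨⟨a₁, ha₁H⟩ * ((⟨k, hKH k⟩ : H)⁻¹ * (⟨a₁, ha₁H⟩ : H)⁻¹ * (⟨k, hKH k⟩ : H)),
        N.mul_mem haN ?_, ?_⟩
      · simpa [mul_assoc] using hN.conj_mem _ (N.inv_mem haN) (⟨k, hKH k⟩ : H)⁻¹
      · simp [mul_assoc])
    have hxo : orderOf x = r := by rw [← hxr, ← Subgroup.orderOf_coe]
    have hxodd : Odd (orderOf x) := hxo ▸ hr.odd_of_ne_two hr2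
    have hxK : x ∈ K := by
      refine mem_of_sq_of_pow (n := orderOf x) hxodd ?_ (by rw [pow_orderOf_eq_one]; exact K.one_mem)
      obtain ⟨_, ⟨i, rfl⟩, k, hk, hik⟩ := exists_mul_of_mem_sup
        (Subgroup.zpowers_le.2 (hAn ha₁)) (by rwa [hH, sup_comm] at hxH)
      simp only at hik
      rcases Int.even_or_odd i with ⟨j, rfl⟩ | ⟨j, rfl⟩
      · rw [← two_mul, zpow_mul, zpow_two, sq_one hA ha₁, one_zpow, one_mul] at hik
        exact K.mul_mem (hik ▸ hk) (hik ▸ hk)
      · rw [zpow_add, zpow_mul, zpow_two, sq_one hA ha₁, one_zpow, one_mul, zpow_one] at hik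
        have h' : x * x = (a₁ * k * a₁⁻¹) * k := by
          rw [← hik, inv_eq_of_mul_eq_one_left (sq_one hA ha₁)]; group
        rw [h']
        exact K.mul_mem (conj_mem (hAn ha₁) hk) hk
    refine hasData_of_pair hfree hA hCA hCne ha₁ hidx hxodd ?_ ?_ (congrArg Subtype.val hxinv)
    · intro h
      rw [h, orderOf_one] at hxo
      exact hr.one_lt.ne hxo
    · rw [Subgroup.mem_centralizer_iff]
      exact fun g hg => (Subgroup.mem_centralizer_iff.1 hg.2 _ hxK).symm
  · -- a four-group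
    obtain ⟨a₂, ha₂, ha₂A₁⟩ : ∃ a ∈ A, a ∉ A₁ := by
      by_contra h
      push Not at h
      exact htop (le_antisymm hA₁A h)
    have hidx : A₁.relIndex A ≤ 2 := by
      have := Subgroup.relIndex_mul_relIndex C A₁ A le_sup_left hA₁A
      nlinarith
    obtain ⟨u₁, hu₁⟩ := hinner ⟨a₁, ha₁⟩
    obtain ⟨u₂, hu₂⟩ := hinner ⟨a₂, ha₂⟩
    have hone : ∀ (g : X) (hg : g ∈ A), θA ⟨g, hg⟩ = 1 → g ∈ C := fun g hg h =>
      ⟨hg, hθker _ h⟩
    have hu₁1 : u₁ ≠ 1 := fun h => ha₁C (hone a₁ ha₁ (by rw [hu₁, h, map_one]))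
    have hu₂1 : u₂ ≠ 1 := fun h =>
      ha₂A₁ (Subgroup.mem_sup_left (hone a₂ ha₂ (by rw [hu₂, h, map_one])))
    have hsq₁ : u₁ * u₁ = 1 := hconj (by rw [map_mul, map_one, ← hu₁, hsq])
    have hsq₂ : u₂ * u₂ = 1 := hconj (by rw [map_mul, map_one, ← hu₂, hsq])
    have hne : u₁ ≠ u₂ := fun h => ha₂A₁ (by
      have h1 : θA (⟨a₁, ha₁⟩ * ⟨a₂, ha₂⟩) = 1 := by rw [map_mul, hu₁, hu₂, ← map_mul, h, hsq₂, map_one]
      have h2 := hone (a₁ * a₂) (A.mul_mem ha₁ ha₂) h1
      have : a₂ = a₁ * (a₁ * a₂) := by rw [← mul_assoc, sq_one hA ha₁, one_mul]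
      rw [this]
      exact A₁.mul_mem (Subgroup.mem_sup_right (Subgroup.mem_zpowers a₁)) (Subgroup.mem_sup_left h2))
    have hcomm : u₁ * u₂ = u₂ * u₁ := hconj (by
      rw [map_mul, map_mul, ← hu₁, ← hu₂, ← map_mul, ← map_mul]
      exact congrArg θA (Subtype.ext (comm_el hA ha₁ ha₂)))
    obtain ⟨q, hqo, hq1, hq₁, hq₂⟩ :=
      Three.exists_inverted_in_centralizer hF hn hsq₁ hu₁1 hsq₂ hu₂1 hne hcomm
    obtain ⟨k₀, hk₀⟩ := hπ q
    obtain ⟨s, m, hm, hord⟩ := Nat.exists_eq_pow_mul_and_not_dvd (orderOf_pos k₀).ne' 2 (by norm_num)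
    set y : K := k₀ ^ 2 ^ s with hy
    have hyodd : Odd (orderOf y) := by
      rw [hy, orderOf_pow_of_dvd (by positivity) (Dvd.intro m hord.symm), hord,
        Nat.mul_div_cancel_left _ (by positivity)]
      exact Nat.odd_iff.2 (by omega)
    set q' := q ^ 2 ^ s with hq'
    have hπy : π y = q' := by rw [hy, map_pow, hk₀]
    have hq'1 : q' ≠ 1 := fun h => hq1 (orderOf_eq_one_iff.1 (Nat.eq_one_of_dvd_coprimes
      ((Nat.coprime_two_right.2 hqo).pow_right s) dvd_rfl (orderOf_dvd_of_pow_eq_one h)))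
    have hq'₁ : u₁ * q' = q' * u₁ := ((show Commute u₁ q from hq₁).pow_right _).eq
    have hq'₂ : u₂ * q' * u₂⁻¹ = q'⁻¹ := by rw [hq', ← conj_pow, hq₂, inv_pow]
    have hact : ∀ (g : X) (hg : g ∈ A) (u : Q), θA ⟨g, hg⟩ = MulAut.conj u → ∀ k : K,
        π ⟨g * k * g⁻¹, conj_mem (hAn hg) k.2⟩ = u * π k * u⁻¹ := by
      intro g hg u hu k
      have h := hθ ⟨g, hAn hg⟩ k ⟨g * k * g⁻¹, conj_mem (hAn hg) k.2⟩ rfl
      rw [show θ ⟨g, hAn hg⟩ = MulAut.conj u from hu, MulAut.conj_apply] at h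
      exact h.symm
    -- a fixed point of `A₁` in the coset of `Z(K)`
    set Zc := (Subgroup.center K).map K.subtype with hZc
    have hZodd : Odd (Nat.card Zc) := odd_card_of_subnormal hO
      ((inferInstance : (Subgroup.center K).Normal).isSubnormal.trans' hK.1) (by
        have hc : ∀ u v : Zc, u * v = v * u := by
          rintro ⟨_, u, hu, rfl⟩ ⟨_, v, hv, rfl⟩
          exact Subtype.ext (show (u : X) * v = v * u from congrArg Subtype.val (Subgroup.mem_center_iff.1 hv u))
        letI : CommGroup Zc := { (inferInstance : Group Zc) with mul_comm := hc }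
        exact inferInstance)
    have hZmem : ∀ k : K, π k = 1 → (k : X) ∈ Zc := fun k hk =>
      ⟨k, (QuotientGroup.eq_one_iff k).1 (e.map_eq_one_iff.1 hk), rfl⟩
    have hA₁Z : A₁ ≤ Subgroup.normalizer (Zc : Set X) := fun g hg => by
      have hgn := hAn (hA₁A hg)
      have hstep : ∀ h ∈ Subgroup.normalizer (K : Set X), ∀ v ∈ Zc, h * v * h⁻¹ ∈ Zc := by
        rintro h hh _ ⟨v, hv, rfl⟩
        refine ⟨⟨h * v * h⁻¹, conj_mem hh v.2⟩, Subgroup.mem_center_iff.2 fun k => Subtype.ext ?_, rfl⟩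
        have hk' : h⁻¹ * (k : X) * h ∈ K := by simpa using conj_mem (Subgroup.inv_mem _ hh) k.2
        have hcom : h⁻¹ * (k : X) * h * v = v * (h⁻¹ * (k : X) * h) :=
          congrArg Subtype.val (Subgroup.mem_center_iff.1 hv ⟨_, hk'⟩)
        show (k : X) * (h * v * h⁻¹) = h * v * h⁻¹ * k
        calc (k : X) * (h * v * h⁻¹) = h * (h⁻¹ * k * h * v) * h⁻¹ := by group
          _ = h * (v * (h⁻¹ * k * h)) * h⁻¹ := by rw [hcom]
          _ = _ := by group
      rw [Subgroup.mem_normalizer_iff]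
      refine fun v => ⟨hstep g hgn v, fun h => ?_⟩
      simpa [mul_assoc] using hstep g⁻¹ (Subgroup.inv_mem _ hgn) _ h
    have hfix : ∀ g ∈ A₁, (y : X)⁻¹ * (g * y * g⁻¹) ∈ Zc := by
      intro g hg
      have hgA := hA₁A hg
      obtain ⟨c, hc, _, ⟨i, rfl⟩, rfl⟩ :=
        exists_mul_of_mem_sup ((hCA.trans (el_le_normalizer hA (Subgroup.zpowers_le.2 ha₁)))) hg
      refine hZmem (y⁻¹ * ⟨_, conj_mem (hAn hgA) y.2⟩) ?_
      obtain ⟨v, hv⟩ := hinner ⟨_, hgA⟩
      rw [map_mul, map_inv, hact _ hgA v hv, hπy]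
      have hv' : MulAut.conj v = MulAut.conj (u₁ ^ i) := by
        rw [← hv, map_zpow, ← hu₁, ← map_zpow]
        have : θA ⟨c, hCA hc⟩ = 1 := by
          refine MulEquiv.ext fun t => ?_
          obtain ⟨k, rfl⟩ := hπ t
          have h := hθ ⟨c, hAn (hCA hc)⟩ k k (by
            rw [show c * (k : X) = (k : X) * c from
              (Subgroup.mem_centralizer_iff.1 hc.2 _ k.2).symm, mul_inv_cancel_right])
          exact h
        rw [show (⟨c * a₁ ^ i, hgA⟩ : A) = ⟨c, hCA hc⟩ * ⟨a₁, ha₁⟩ ^ i from Subtype.ext (by simp),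
          map_mul, this, one_mul]
      rw [hconj hv', ((show Commute u₁ q' from hq'₁).zpow_left i).eq, mul_inv_cancel_right,
        inv_mul_cancel]
    have hcop : (Nat.card A₁).Coprime (Nat.card Zc) := by
      obtain ⟨j, hj⟩ := IsPGroup.iff_card.1 ((isPGroup_el hA).to_le hA₁A)
      rw [hj]
      exact Nat.Coprime.pow_left _ (Nat.coprime_two_left.2 hZodd)
    obtain ⟨y', hy'C, hy'Z⟩ := exists_centralizing_in_coset hA₁Z hcop (Or.inl
      (Group.isSolvable_of_comm fun u v => Subtype.ext (comm_el hA (hA₁A u.2) (hA₁A v.2)))) hfix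
    have hy'K : y' ∈ K := by
      have := K.mul_mem y.2 (Subgroup.map_subtype_le _ hy'Z)
      simpa using this
    have hπy' : π ⟨y', hy'K⟩ = q' := by
      obtain ⟨v, hv, hv'⟩ := hy'Z
      have : (⟨y', hy'K⟩ : K) = y * v := Subtype.ext (by
        rw [Subgroup.coe_mul]
        simp only [Subgroup.coe_subtype] at hv'
        rw [hv', mul_inv_cancel_left])
      rw [this, map_mul, hπy]
      show q' * e (QuotientGroup.mk v) = q'
      rw [(QuotientGroup.eq_one_iff v).2 hv, map_one, mul_one]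
    set x : K := (⟨y', hy'K⟩ : K)⁻¹ * ⟨a₂ * y' * a₂⁻¹, conj_mem (hAn ha₂) hy'K⟩ with hx
    have hπx : π x = q'⁻¹ * q'⁻¹ := by
      rw [hx, map_mul, map_inv, hact a₂ ha₂ u₂ hu₂ ⟨y', hy'K⟩, hπy', hq'₂]
    have hx1 : π x ≠ 1 := by
      rw [hπx, ← mul_inv_rev, Ne, inv_eq_one]
      intro h
      have h2 : orderOf q' ∣ 2 := orderOf_dvd_of_pow_eq_one (by rw [sq, h])
      have hodd' : Odd (orderOf q') := hqo.of_dvd_nat (orderOf_pow_dvd _)
      exact hq'1 (orderOf_eq_one_iff.1 (Nat.eq_one_of_dvd_coprimes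
        (Nat.coprime_two_right.2 hodd') dvd_rfl h2))
    -- `x` has odd order
    have hxodd : Odd (orderOf (x : X)) := by
      -- `x` is `y'⁻²` up to an element of `Z(K)`
      have hdiff : π (⟨y', hy'K⟩ * ⟨a₂ * y' * a₂⁻¹, conj_mem (hAn ha₂) hy'K⟩) = 1 := by
        rw [map_mul, hact a₂ ha₂ u₂ hu₂ ⟨y', hy'K⟩, hπy', hq'₂, mul_inv_cancel]
      obtain ⟨zc, hzc, hzv⟩ := hZmem _ hdiff
      obtain ⟨v, hv, hv'⟩ := hy'Z
      simp only [Subgroup.coe_subtype, Subgroup.coe_mul] at hzv hv'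
      have hy'e : y' = y * (v : X) := by rw [hv', mul_inv_cancel_left]
      have hyv : Commute (y : X) (v : X) :=
        congrArg Subtype.val (Subgroup.mem_center_iff.1 hv y)
      have hvodd : Odd (orderOf (v : X)) := odd_of_card_odd hZodd ⟨v, hv, rfl⟩
      have hy'odd : Odd (orderOf y') := by
        rw [hy'e]
        exact (Odd.mul (by rwa [Subgroup.orderOf_coe]) hvodd).of_dvd_nat
          (hyv.orderOf_mul_dvd_mul_orderOf)
      have hy'z : Commute y' (zc : X) :=
        congrArg Subtype.val (Subgroup.mem_center_iff.1 hzc ⟨y', hy'K⟩)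
      have hxe : (x : X) = (y'⁻¹ * y'⁻¹) * (zc : X) := by
        rw [hx, Subgroup.coe_mul, Subgroup.coe_inv, hzv]
        group
      rw [hxe]
      refine (Odd.mul ?_ (odd_of_card_odd hZodd ⟨zc, hzc, rfl⟩)).of_dvd_nat
        ((hy'z.inv_left.mul_left hy'z.inv_left).orderOf_mul_dvd_mul_orderOf)
      rw [← pow_two]
      exact (orderOf_inv y' ▸ hy'odd).of_dvd_nat (orderOf_pow_dvd 2)
    refine hasData_of_pair hfree hA hA₁A (fun h => ha₂A₁ (h ▸ ha₂)) ha₂ hidx hxodd
      (fun h => hx1 (by rw [show x = 1 from Subtype.ext h, map_one])) ?_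
      (inv_comm (sq_one hA ha₂) y')
    rw [Subgroup.mem_centralizer_iff]
    intro g hg
    have h1 : Commute g y' := Subgroup.mem_centralizer_iff.1 hy'C g hg
    have h2 : Commute g a₂ := comm_el hA (hA₁A hg) ha₂
    exact (h1.inv_right.mul_right ((h2.mul_right h1).mul_right h2.inv_right)).eq

/-- The main existence statement. -/
theorem exists_data (hO : pCore 2 X = ⊥) (hfree : ¬ Involves (Equiv.Perm (Fin 3)) X)
    (hc : IsCompositionKGroupWith IsSuzukiOrPSL2OddPowerThree X) {A : Subgroup X}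
    (hA : IsElementaryAbelian 2 A) (hA1 : A ≠ ⊥) : HasData A := by
  classical
  haveI : Fact (Nat.Prime 2) := ⟨Nat.prime_two⟩
  haveI := hA.1
  set F := fittingSubgroup X
  have hFodd : Odd (Nat.card F) := odd_card_of_subnormal hO
    (CfsgLib.Base.fittingSubgroup_normal' X).isSubnormal (CfsgLib.Base.isNilpotent_fittingSubgroup X)
  haveI : F.Normal := CfsgLib.Base.fittingSubgroup_normal' X
  have hcop : (Nat.card A).Coprime (Nat.card F) := by
    obtain ⟨j, hj⟩ := IsPGroup.iff_card.1 (isPGroup_el hA)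
    rw [hj]
    exact Nat.Coprime.pow_left _ (Nat.coprime_two_left.2 hFodd)
  by_cases hAF : F ≤ Subgroup.centralizer (A : Set X)
  · -- some component is not centralised
    obtain ⟨K, hK, hnc⟩ : ∃ K : Subgroup X, IsComponent K ∧
        ¬ A ≤ Subgroup.centralizer (K : Set X) := by
      by_contra hcon
      push Not at hcon
      have h1 : A ≤ Subgroup.centralizer (generalizedFittingSubgroup X : Set X) := by
        rw [Subgroup.le_centralizer_iff]
        exact sup_le (layer_le_iff.2 fun K hK => Subgroup.le_centralizer_iff.1 (hcon K hK)) hAF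
      have h2 := h1.trans centralizer_fstar_le_fitting
      exact hA1 (Subgroup.eq_bot_of_card_eq _ (Nat.eq_one_of_dvd_coprimes hcop dvd_rfl
        (Subgroup.card_dvd_of_le h2)))
    haveI := hK.2.2
    have hncomm : ¬ IsMulCommutative (K ⧸ Subgroup.center K) := fun h => by
      refine quasisimple_not_isSolvable hK.2 ?_
      haveI : Group.IsSolvable (K ⧸ Subgroup.center K) :=
        Group.isSolvable_of_comm fun u v => mul_comm' u v
      haveI : Group.IsSolvable (Subgroup.center K) := Group.isSolvable_of_comm fun u v =>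
        Subtype.ext (Subgroup.mem_center_iff.1 v.2 u)
      exact (Group.isSolvable_iff_subgroup_quotient (Subgroup.center K)).2 ⟨inferInstance, inferInstance⟩
    rcases hc K hK.1 (Subgroup.center K) inferInstance hncomm with
      ⟨F', _, _, m, hm, hF', ⟨e⟩⟩ | ⟨F', _, _, n, hF', ⟨e⟩⟩
    · exact sz_data hA hK hnc hm hF' e
    · refine l2_data hO hfree hA hK hnc (n := n) ?_ hF' e
      by_contra hn
      obtain rfl : n = 0 := by omega
      have hc' : Nat.card (K ⧸ Subgroup.center K) < 60 := by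
        rw [Nat.card_congr e.toEquiv]
        have e' := CfsgLib.Classical.card_PSL_two_mul (F := F')
        have hq : Nat.card F' = 3 := by rw [Nat.card_eq_fintype_card, hF']; norm_num
        rw [CfsgLib.Classical.gcd_two_card_sub_one_of_odd (F := F') (by rw [hq]; decide), hq] at e'
        norm_num [← Nat.card_eq_fintype_card] at e'
        omega
      haveI := CfsgLib.Recog.isSolvable_of_card_lt_sixty hc'
      exact hncomm (isMulCommutative_iff.2 (IsSimpleGroup.comm_iff_isSolvable.2 inferInstance))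
  · -- the Fitting subgroup
    obtain ⟨B, hBA, ⟨a, haA, hgen⟩, hB⟩ : ∃ B ≤ A, (∃ a ∈ A, B ⊔ Subgroup.zpowers a = A) ∧
        ¬ F ⊓ Subgroup.centralizer (B : Set X) ≤ Subgroup.centralizer (A : Set X) := by
      by_contra hcon
      push Not at hcon
      exact hAF (le_of_cyclic_quotient Subgroup.le_normalizer_of_normal hcop hcon)
    obtain ⟨x₀, ⟨hx₀F, hx₀B⟩, hx₀⟩ := SetLike.not_le_iff_exists.1 hB
    have hx₀a : a * x₀ * a⁻¹ ≠ x₀ := fun h => hx₀ (by
      rw [← hgen]
      refine Subgroup.le_centralizer_iff.1 ?_ (Subgroup.mem_zpowers x₀)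
      refine sup_le (Subgroup.le_centralizer_iff.1 (Subgroup.zpowers_le.2 hx₀B))
        (Subgroup.zpowers_le.2 (Subgroup.mem_centralizer_iff.2 ?_))
      rintro _ ⟨i, rfl⟩
      exact ((show Commute a x₀ from mul_inv_eq_iff_eq_mul.1 h).zpow_right i).eq.symm)
    set x := x₀⁻¹ * (a * x₀ * a⁻¹) with hx
    have hxF : x ∈ F := F.mul_mem (F.inv_mem hx₀F) (‹F.Normal›.conj_mem _ hx₀F a)
    have hBne : B ≠ A := fun h => hB (inf_le_right.trans (le_of_eq (by rw [h])))
    have hidx : B.relIndex A ≤ 2 := by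
      rw [← hgen, sup_comm, relIndex_sup_eq ((Subgroup.zpowers_le.2 haA).trans (el_le_normalizer hA hBA))]
      refine (Nat.le_of_dvd Nat.card_pos (Subgroup.relIndex_dvd_card _ _)).trans ?_
      rw [Nat.card_zpowers]
      exact Nat.le_of_dvd two_pos (orderOf_dvd_of_pow_eq_one (by rw [sq, sq_one hA haA]))
    refine hasData_of_pair hfree hA hBA hBne haA hidx (odd_of_card_odd hFodd hxF)
      (fun h => hx₀a (inv_mul_eq_one.1 h).symm) ?_ (inv_comm (sq_one hA haA) x₀)
    rw [Subgroup.mem_centralizer_iff]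
    intro g hg
    have h1 : Commute g x₀ := Subgroup.mem_centralizer_iff.1 hx₀B g hg
    have h2 : Commute g a := comm_el hA (hBA hg) haA
    exact (h1.inv_right.mul_right ((h2.mul_right h1).mul_right h2.inv_right)).eq

end CfsgLib.LocalEven.SzL2
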